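import Cfsg.Agent.Lib.FusionSystem.Meet.Saturated
import Cfsg.Agent.Lib.FusionSystem.WeaklyNormalResidual
import Cfsg.Agent.Lib.FusionSystem.CoreDisplacement

/-! The meet is normal in the three systems and is the largest such subsystem. -/

set_option autoImplicit false

namespace CfsgLib.Fsys.Meet

open Cfsg Cfsg.FusionSystem CfsgLib.Fsys.WNR
open Cfsg.FusionSystem (centralizerIn normalizerIn)

universe u

variable {Ω : Type u} [Group Ω] {S T T₁ U : Subgroup Ω} {F : FusionSystem S} {D : FusionSystem T}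
  {D₁ : FusionSystem T₁} {p : ℕ}

/-- Invariance from its function form. -/
theorem invariant_of_fn {G : FusionSystem U} {E : FusionSystem T} (hE : E.IsSubsystemOf G)
    (hT : G.StronglyClosed T)
    (htr : ∀ {P : Subgroup Ω} {g : Ω → Ω} {α : MulAut T}, Fn E P g → α ∈ G.autGroup T →
      ∃ χ, Fn E (img (autFn α) P) χ ∧ ∀ x ∈ P, χ (autFn α x) = autFn α (g x))
    (hdec : ∀ {P : Subgroup Ω} {f : Ω → Ω}, P ≤ T → Fn G P f →
      ∃ α ∈ G.autGroup T, ∃ e, Fn E P e ∧ ∀ x ∈ P, f x = autFn α (e x)) :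
    E.IsInvariantIn G := by
  refine ⟨hE, hT, fun P hP φ hφ α hα => ?_, fun P hP φ hφ => ?_⟩
  · obtain ⟨χ, hχ, he⟩ := htr (fn_ofHom hφ) hα
    have e : (P.subgroupOf T).map (T.subtype.comp α.toMonoidHom) = img (autFn α) P := by
      refine le_antisymm ?_ (img_le fun x hx => ⟨⟨x, hP hx⟩, hx, (autFn_coe α ⟨x, hP hx⟩).symm⟩)
      rintro _ ⟨x, hx, rfl⟩
      show ((α x : T) : Ω) ∈ _
      rw [← autFn_coe]
      exact mem_img_of_mem hx
    obtain ⟨ψ, hψ, hψf⟩ := id hχ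
    refine ⟨ψ.comp (MulEquiv.subgroupCongr e).toMonoidHom,
      mem_hom_of_fn (e.symm ▸ hχ) fun y => hψf _, fun x hφx hαx => ?_⟩
    refine (hψf _).trans ?_
    show χ ((α ⟨x, hP x.2⟩ : T) : Ω) = _
    rw [← autFn_coe α ⟨x, hP x.2⟩, he x x.2, ofHom_coe]
    exact autFn_coe α ⟨φ x, hφx⟩
  · obtain ⟨α, hα, e, he, h⟩ := hdec hP (fn_ofHom hφ)
    obtain ⟨φ₀, hφ₀, hφ₀e⟩ := id he
    refine ⟨α, hα, φ₀, hφ₀, fun x hx => ?_⟩
    rw [← ofHom_coe φ x, h x x.2, ← hφ₀e x]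
    exact autFn_coe α ⟨_, hx⟩

variable [Fact p.Prime] [Finite S] (st : Setup F D D₁ p)
include st

theorem meetSys_invariant_base : (meetSys st).IsInvariantIn F :=
  invariant_of_fn (meetSys_sub st) st.sc (fun hg hα => meetSys_transform st hα hg) fun hP hf => dec_self st hP hf

theorem meetSys_invariant_in {G : FusionSystem U} (hG : G.IsWeaklyNormalIn F p) (hW : T ⊓ T₁ ≤ U)
    (hK : ∀ Y, Y ≤ T ⊓ T₁ → kGen p F D D₁ Y ≤ G.autGroup Y) (hsub : (meetSys st).IsSubsystemOf G) :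
    (meetSys st).IsInvariantIn G := by
  have hU := hG.2.2.2.1
  haveI := finite_of_le_base hU.1
  have hsc : G.StronglyClosed (T ⊓ T₁) := stronglyClosed_iff_fn.2
    ⟨hW, fun _ _ hf _ hx h => sc_apply st.sc (hf.of_subsystem hG.2.2.1) hx h⟩
  refine invariant_of_fn hsub hsc (fun hg hα => meetSys_transform st (autGroup_mono' hG.2.2.1 _ hα) hg)
    fun {P f} hP hf => frattini st hG.1 hG.2.2.1 hU hW hK (fun R hR => ?_) hP hf
  obtain ⟨Q₀, hRQ, hQ₀⟩ := exists_nice (p := p) st.isp st.sat (hR.trans st.sc.1)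
  obtain ⟨f₀, hf₀, hf₀i⟩ := isConj_iff.1 hRQ
  obtain ⟨α, hα, g, hg, hfg⟩ := Invariant.frattini hG.2.2 (hR.trans hW) hf₀
  refine ⟨img g R, g, hg, rfl, rep_of_aut st hU hW
    (img_le fun x hx => sc_apply st.sc (hg.of_subsystem hG.2.2.1) hx (hR hx)) hα ?_ hQ₀⟩
  rw [← hg.img_comp, ← hf₀i]
  exact img_congr fun x hx => (hfg x hx).symm

theorem base_fullyCentralized : F.IsFullyCentralized (T ⊓ T₁) := by
  refine ⟨st.sc.1, fun Z hZ => ?_⟩
  obtain ⟨f, hf, hfi⟩ := isConj_iff.1 hZ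
  obtain rfl : Z = T ⊓ T₁ := eq_of_le_of_card st.sc.1
    (hfi ▸ img_le fun x hx => sc_apply st.sc hf hx hx) (isConj_card hZ).ge
  exact le_rfl

/-- An element of `Aut(T ⊓ T₁)` in the meet extends to the centralizer in each of the three systems. -/
theorem meetSys_extends {a : MulAut ↥(T ⊓ T₁)} (ha : a ∈ (meetSys st).autGroup (T ⊓ T₁)) :
    ∃ h : Ω → Ω, Fn F ((T ⊓ T₁) ⊔ centralizerIn S (T ⊓ T₁)) h ∧ (∀ y ∈ T ⊓ T₁, h y = autFn a y) ∧
      (∀ c ∈ centralizerIn S (T ⊓ T₁), c⁻¹ * h c ∈ T ⊓ T₁ ⊓ Subgroup.centralizer ((T ⊓ T₁ : Subgroup Ω) : Set Ω)) ∧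
      Fn D ((T ⊓ T₁) ⊔ centralizerIn T (T ⊓ T₁)) h ∧ Fn D₁ ((T ⊓ T₁) ⊔ centralizerIn T₁ (T ⊓ T₁)) h := by
  obtain ⟨h, hh, hha, hhd, hhD, hhD₁⟩ :=
    kGen_le_liftSub st le_rfl (base_fullyCentralized st) (top_automizer st ha)
  refine ⟨h, hh, hha, fun c hc => ⟨hhd c hc, ?_⟩, hhD, hhD₁⟩
  have hc' := hh.map_centralizer le_sup_left ((img_congr hha).trans (img_autFn a)) (Subgroup.mem_sup_right hc) hc
  exact Subgroup.mul_mem _ (Subgroup.inv_mem _ hc.2) hc'.2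

theorem normal_ext {G : FusionSystem U} (hU : F.StronglyClosed U) {h : Ω → Ω} {a : MulAut ↥(T ⊓ T₁)}
    (hF : Fn F ((T ⊓ T₁) ⊔ centralizerIn S (T ⊓ T₁)) h) (hh : Fn G ((T ⊓ T₁) ⊔ centralizerIn U (T ⊓ T₁)) h)
    (hha : ∀ y ∈ T ⊓ T₁, h y = autFn a y)
    (hhd : ∀ c ∈ centralizerIn S (T ⊓ T₁), c⁻¹ * h c ∈ T ⊓ T₁ ⊓ Subgroup.centralizer ((T ⊓ T₁ : Subgroup Ω) : Set Ω)) :
    ∃ β ∈ G.autGroup ((T ⊓ T₁) ⊔ centralizerIn U (T ⊓ T₁)),
      (∀ x : ↥(T ⊓ T₁), ((β (Subgroup.inclusion le_sup_left x) : ↥((T ⊓ T₁) ⊔ centralizerIn U (T ⊓ T₁))) : Ω) =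
        ((a x : ↥(T ⊓ T₁)) : Ω)) ∧
      ∀ c : ↥((T ⊓ T₁) ⊔ centralizerIn U (T ⊓ T₁)), (c : Ω) ∈ centralizerIn U (T ⊓ T₁) →
        (c : Ω)⁻¹ * ((β c : ↥((T ⊓ T₁) ⊔ centralizerIn U (T ⊓ T₁))) : Ω) ∈
          T ⊓ T₁ ⊓ Subgroup.centralizer ((T ⊓ T₁ : Subgroup Ω) : Set Ω) := by
  haveI := finite_of_le_base hU.1
  obtain ⟨β, hβ, hβe⟩ := exists_aut_of_fn hh (lift_img hU hF ((img_congr hha).trans (img_autFn a)))
  refine ⟨β, hβ, fun x => ?_, fun c hc => ?_⟩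
  · rw [hβe, ← autFn_coe]
    exact hha x x.2
  · rw [hβe]
    exact hhd c ⟨hU.1 hc.1, hc.2⟩

theorem meetSys_normal_base : (meetSys st).IsNormalIn F p := by
  refine ⟨⟨meetSys_saturated st, st.sat, meetSys_invariant_base st⟩, fun a ha => ?_⟩
  obtain ⟨h, hh, hha, hhd, -, -⟩ := meetSys_extends st ha
  exact normal_ext st (stronglyClosed_base st) hh hh hha hhd

theorem meetSys_normal_left : (meetSys st).IsNormalIn D p := by
  refine ⟨⟨meetSys_saturated st, st.wn.1, meetSys_invariant_in st st.wn inf_le_left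
    (fun _ hY => (kGen_le st hY).trans inf_le_left) (meetSys_sub_left st)⟩, fun a ha => ?_⟩
  obtain ⟨h, hh, hha, hhd, hhD, -⟩ := meetSys_extends st ha
  exact normal_ext st st.wn.2.2.2.1 hh hhD hha hhd

theorem meetSys_normal_right : (meetSys st).IsNormalIn D₁ p := by
  refine ⟨⟨meetSys_saturated st, st.wn₁.1, meetSys_invariant_in st st.wn₁ inf_le_right
    (fun _ hY => (kGen_le st hY).trans inf_le_right) (meetSys_sub_right st)⟩, fun a ha => ?_⟩
  obtain ⟨h, hh, hha, hhd, -, hhD₁⟩ := meetSys_extends st ha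
  exact normal_ext st st.wn₁.2.2.2.1 hh hhD₁ hha hhd

variable {D' : FusionSystem (T ⊓ T₁)}

/-- A coprime lift lies in a weakly normal system having some lift. -/
theorem fn_of_coprime_lift {G : FusionSystem U} (hG : G.IsWeaklyNormalIn F p) (hW : T ⊓ T₁ ≤ U)
    (hD' : D'.IsNormalIn G p) {a : MulAut ↥(T ⊓ T₁)} (ha : a ∈ D'.autGroup (T ⊓ T₁)) {h : Ω → Ω}
    (hh : Fn F ((T ⊓ T₁) ⊔ centralizerIn S (T ⊓ T₁)) h) (hha : ∀ y ∈ T ⊓ T₁, h y = autFn a y)
    (hhd : ∀ c ∈ centralizerIn S (T ⊓ T₁), c⁻¹ * h c ∈ T ⊓ T₁)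
    {β : MulAut ↥((T ⊓ T₁) ⊔ centralizerIn S (T ⊓ T₁))}
    (hβ : ∀ x ∈ (T ⊓ T₁) ⊔ centralizerIn S (T ⊓ T₁), autFn β x = h x) (hco : Nat.Coprime (orderOf β) p) :
    Fn G ((T ⊓ T₁) ⊔ centralizerIn U (T ⊓ T₁)) h := by
  have hU := hG.2.2.2.1
  haveI := finite_of_le_base hU.1
  set V := (T ⊓ T₁) ⊔ centralizerIn U (T ⊓ T₁)
  have hVU : V ≤ U := sup_le hW inf_le_left
  have hVS : V ≤ (T ⊓ T₁) ⊔ centralizerIn S (T ⊓ T₁) := sub_le_sup hU.1
  haveI := finite_of_le_base (hVU.trans hU.1)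
  haveI := finite_base st
  have hhW : img h (T ⊓ T₁) = T ⊓ T₁ := (img_congr hha).trans (img_autFn a)
  have hhV := lift_img hU hh hhW
  obtain ⟨η, hη, hηe⟩ := exists_aut_of_fn (hh.mono hVS) hhV
  obtain ⟨γ, hγ, hγa, hγd⟩ := hD'.2 a ha
  have hγW : ∀ w ∈ T ⊓ T₁, autFn γ w = autFn a w := fun w hw => by
    rw [autFn_coe a ⟨w, hw⟩, ← hγa ⟨w, hw⟩]
    exact autFn_coe γ ⟨w, Subgroup.mem_sup_left hw⟩
  have hγF := autGroup_mono' hG.2.2.1 V hγ
  set d := γ⁻¹ * η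
  have hdh : ∀ v ∈ V, autFn γ (autFn d v) = h v := fun v hv => by
    rw [← autFn_mul _ _ hv, mul_inv_cancel_left, autFn_coe η ⟨v, hv⟩, hηe]
  have hdfix : ∀ w ∈ T ⊓ T₁, autFn d w = w := fun w hw => by
    have hwV : w ∈ V := Subgroup.mem_sup_left hw
    rw [autFn_mul _ _ hwV, autFn_coe η ⟨w, hwV⟩, hηe, hha w hw, ← hγW w hw, autFn_inv_apply γ hwV]
  have hγf : Fn G V (autFn γ) := (mem_autGroup_iff_fn hVU).1 hγ
  have hγi : Fn G V (autFn γ⁻¹) := (mem_autGroup_iff_fn hVU).1 (inv_mem hγ)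
  have hdf : Fn F V (autFn d) := (mem_autGroup_iff_fn (hVU.trans hU.1)).1 (mul_mem (inv_mem hγF) hη)
  have hγWi : img (autFn γ⁻¹) (T ⊓ T₁) ≤ T ⊓ T₁ := img_le fun w hw =>
    sc_apply st.sc (hγi.of_subsystem hG.2.2.1) (Subgroup.mem_sup_left hw) hw
  have hdmove : ∀ v ∈ V, v⁻¹ * autFn d v ∈ T ⊓ T₁ := fun v hv => by
    obtain ⟨w, hw, c, hc, rfl⟩ := mem_sup_of_commute
      (fun a ha b hb => (mem_centralizerIn.1 hb).2 a ha) hv
    have hwV : w ∈ V := Subgroup.mem_sup_left hw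
    have hcV : c ∈ V := Subgroup.mem_sup_right hc
    rw [hdf.map_mul hwV hcV, hdfix w hw, show (w * c)⁻¹ * (w * autFn d c) = c⁻¹ * autFn d c by group]
    have hw₂ : c⁻¹ * autFn γ c ∈ T ⊓ T₁ := by
      have h1 := (hγd ⟨c, hcV⟩ hc).1
      rwa [← autFn_coe γ] at h1
    have hγc : autFn γ c ∈ V := autFn_mem γ hcV
    have e1 : autFn γ c = c * (c⁻¹ * autFn γ c) := (mul_inv_cancel_left _ _).symm
    have hcW₂ : (c⁻¹ * autFn γ c)⁻¹ * (c⁻¹ * h c) ∈ T ⊓ T₁ :=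
      Subgroup.mul_mem _ (Subgroup.inv_mem _ hw₂) (hhd c ⟨hU.1 hc.1, hc.2⟩)
    have e2 : h c = autFn γ c * ((c⁻¹ * autFn γ c)⁻¹ * (c⁻¹ * h c)) := by group
    have h2 : autFn d c = c * autFn γ⁻¹ ((c⁻¹ * autFn γ c)⁻¹ * (c⁻¹ * h c)) := by
      conv_lhs => rw [autFn_mul _ _ hcV, autFn_coe η ⟨c, hcV⟩, hηe, show h ((⟨c, hcV⟩ : V) : Ω) = h c from rfl, e2,
        hγi.map_mul hγc (Subgroup.mem_sup_left hcW₂), autFn_inv_apply γ hcV]
    rw [h2, inv_mul_cancel_left]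
    exact hγWi (mem_img_of_mem hcW₂)
  obtain ⟨K, hK⟩ := IsPGroup.iff_card.1 (isPGroup_base st)
  have hdp : d ^ p ^ K = 1 := by rw [← hK]; exact pow_card_eq_one_of_fix le_sup_left hdfix hdmove
  have hco' : Nat.Coprime (orderOf (γ * d)) p := by
    rw [mul_inv_cancel_left]
    refine Nat.Coprime.coprime_dvd_left (orderOf_dvd_of_pow_eq_one (mulAut_ext fun v hv => ?_)) hco
    have hpow : ∀ j : ℕ, ∀ v ∈ V, autFn (η ^ j) v = autFn (β ^ j) v := fun j => by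
      induction j with
      | zero => intro v hv; rw [pow_zero, pow_zero, autFn_id hv, autFn_id (hVS hv)]
      | succ j ih =>
        intro v hv
        rw [pow_succ, pow_succ, autFn_mul _ _ hv, autFn_mul _ _ (hVS hv), ih _ (autFn_mem η hv),
          hβ v (hVS hv), autFn_coe η ⟨v, hv⟩, hηe]
    rw [hpow _ v hv, pow_orderOf_eq_one, autFn_id (hVS hv), autFn_id hv]
  have hmem := mem_of_stabilizer hγ
    (fun k hk => Invariant.conj_mem hG.2.2 hVU (mul_mem (inv_mem hγF) hη) hk) hdp hco'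
  rw [mul_inv_cancel_left] at hmem
  exact ((mem_autGroup_iff_fn hVU).1 hmem).congr fun v hv => (autFn_coe η ⟨v, hv⟩).trans (hηe _)

/-- The meet contains every subsystem over `T ⊓ T₁` normal in the three systems. -/
theorem meetSys_max (h : D'.IsNormalIn F p) (hl : D'.IsNormalIn D p) (hr : D'.IsNormalIn D₁ p) :
    D'.IsSubsystemOf (meetSys st) := by
  classical
  haveI := finite_base st
  have hWp := isPGroup_base st
  have hWS := st.sc.1
  haveI : Finite (MulAut ↥(T ⊓ T₁)) :=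
    Finite.of_injective (fun f : MulAut ↥(T ⊓ T₁) => (f : ↥(T ⊓ T₁) → ↥(T ⊓ T₁))) DFunLike.coe_injective
  obtain ⟨⟨hD's, -, hD'i⟩, hext⟩ := h
  obtain ⟨Qn, hWQn, hQn⟩ := exists_nice (p := p) st.isp st.sat hWS
  have hnW : Nice F (T ⊓ T₁) := by
    obtain ⟨f, hf, hfi⟩ := isConj_iff.1 hWQn
    obtain rfl : Qn = T ⊓ T₁ := eq_of_le_of_card hWS (hfi ▸ img_le fun x hx => sc_apply st.sc hf hx hx)
      (isConj_card hWQn).ge
    exact hQn
  refine fun P φ hφ => le_of_automizers hWp hD's (meetSys st) ?_ ?_ P hφ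
  · intro a ha
    obtain ⟨b, hb, γ, hγ, rfl⟩ := exists_residual_decomp hWp hD's (fullyAutomized_top hD's) ha
    refine mul_mem (kGen_le_meetSys st (wcentric_top st) ?_) (autInducedBy_le_autGroup le_rfl hγ)
    have hle : (pResidual p (D'.autGroup (T ⊓ T₁))).map (D'.autGroup (T ⊓ T₁)).subtype ≤
        kGen p F D D₁ (T ⊓ T₁) := by
      rw [Subgroup.map_le_iff_le_comap, pResidual, Subgroup.closure_le]
      intro c hc
      have hco : Nat.Coprime (orderOf (c : MulAut ↥(T ⊓ T₁))) p := by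
        rwa [Subgroup.orderOf_coe]
      refine gens_mem_kGen hnW (Or.inr ⟨hco, ?_⟩)
      obtain ⟨β, hβ, hβa, hβd⟩ := hext c c.2
      have hV : (T ⊓ T₁) ⊔ centralizerIn S (T ⊓ T₁) ≤ S := sup_le hWS centralizerIn_le
      obtain ⟨q, hqa, hqco⟩ := CoreLayer.exists_coprime_pow hV le_sup_left (β := β) (a := (c : MulAut ↥(T ⊓ T₁)))
        (fun w hw => by
          rw [autFn_coe (c : MulAut ↥(T ⊓ T₁)) ⟨w, hw⟩, ← hβa ⟨w, hw⟩]
          exact autFn_coe β ⟨w, Subgroup.mem_sup_left hw⟩) hco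
      have hβf : Fn F ((T ⊓ T₁) ⊔ centralizerIn S (T ⊓ T₁)) (autFn β) := (mem_autGroup_iff_fn hV).1 hβ
      have hmv : ∀ j : ℕ, ∀ x ∈ centralizerIn S (T ⊓ T₁), x⁻¹ * autFn (β ^ j) x ∈ T ⊓ T₁ := fun j => by
        induction j with
        | zero =>
          intro x hx
          rw [pow_zero, autFn_id (Subgroup.mem_sup_right hx), inv_mul_cancel]
          exact Subgroup.one_mem _
        | succ j ih =>
          intro x hx
          have hxV : x ∈ (T ⊓ T₁) ⊔ centralizerIn S (T ⊓ T₁) := Subgroup.mem_sup_right hx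
          have h1 : x⁻¹ * autFn β x ∈ T ⊓ T₁ := by
            rw [autFn_coe β ⟨x, hxV⟩]
            exact (hβd ⟨x, hxV⟩ hx).1
          have hf := (mem_autGroup_iff_fn hV).1 (pow_mem hβ j)
          rw [pow_succ, autFn_mul _ _ hxV, ← mul_inv_cancel_left x (autFn β x),
            hf.map_mul hxV (Subgroup.mem_sup_left h1), ← mul_assoc]
          exact Subgroup.mul_mem _ (ih x hx) (sc_apply st.sc hf (Subgroup.mem_sup_left h1) h1)
      have hh := (mem_autGroup_iff_fn hV).1 (pow_mem hβ q)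
      exact ⟨autFn (β ^ q), hh, hqa, hmv q,
        fn_of_coprime_lift st st.wn inf_le_left hl c.2 hh hqa (hmv q) (fun _ _ => rfl) hqco,
        fn_of_coprime_lift st st.wn₁ inf_le_right hr c.2 hh hqa (hmv q) (fun _ _ => rfl) hqco⟩
    exact hle ⟨b, hb, rfl⟩
  · intro P hPlt hPn hbig
    haveI := finite_of_le_base hPlt.le
    haveI : Finite (MulAut P) := Finite.of_injective (fun f : MulAut P => (f : P → P)) DFunLike.coe_injective
    rcases extClosure_eq_or_essential hWp hD's hPlt hPn with he | he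
    · rw [← he]
      refine (Subgroup.closure_le _).2 fun α hα => ?_
      obtain ⟨R, g, hPR, hg, hgα⟩ := hα
      haveI := finite_of_le_base hg.le
      have hgE := hbig R g (Set.Finite.card_lt_card (Set.toFinite (R : Set Ω)) hPR) hg
      exact (mem_autGroup hPlt.le).2 (mem_hom_of_fn (hgE.mono hPR.le) fun x => (hgα x).symm)
    have hc : WCentric F (T ⊓ T₁) P := ⟨he.1.1, fun Z hZ => by
      obtain ⟨f, hf, rfl⟩ := isConj_iff.1 hZ
      exact (centric_img hD'i he.1 hf).2 _ (isConj_refl (centric_img hD'i he.1 hf).1)⟩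
    obtain ⟨hA, hfc⟩ := fullyNormalized_good hWp hD's hPn
    have hrec := fullyCentralized_receptive hWp hD's hfc
    intro a ha
    set A := D'.autGroup P
    set B := autInducedBy (T ⊓ T₁) P
    set O := (kGen p F D D₁ P).subgroupOf A
    haveI : O.Normal := ⟨fun k hk b =>
      kGen_conj (hc.1.trans hWS) (autGroup_mono' hD'i.1 P b.2) hk⟩
    obtain ⟨-, Syl, hSyl⟩ := hA
    have hle : (Syl : Subgroup A) ≤ O := by
      rw [hSyl]
      exact fun x hx => autInducedBy_le_kGen st hc.1 hx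
    have hmem : (⟨a, ha⟩ : A) ∈
        ((Subgroup.normalizer ((Syl : Subgroup A) : Set A) ⊔ O : Subgroup A) : Set A) := by
      have h1 := Sylow.normalizer_sup_eq_top (Syl.subtype hle)
      rw [Sylow.coe_subtype, Subgroup.map_subgroupOf_eq_of_le hle] at h1
      rw [h1]
      exact Subgroup.mem_top _
    rw [Subgroup.mul_normal] at hmem
    obtain ⟨n, hn, k, hk, hnk⟩ := hmem
    rw [hSyl] at hn
    obtain ⟨N, g, hg, hPN, hN, hge⟩ := receptive_extend hrec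
      ((mem_autGroup_iff_fn hc.1).1 n.2) (img_autFn (n : MulAut P))
    have hNN : normalizerIn (T ⊓ T₁) P ≤ N := fun x hx => by
      have hcx : (⟨conjAut P hx.2, autInducedBy_le_autGroup hc.1 (conjAut_mem_autInducedBy hx.2 hx.1)⟩ : A) ∈
          B.subgroupOf A := conjAut_mem_autInducedBy hx.2 hx.1
      obtain ⟨w, hw, hwe⟩ := mem_autInducedBy.1
        (show ((n : MulAut P) * conjAut P hx.2 * (n : MulAut P)⁻¹) ∈ B from
          (Subgroup.mem_normalizer_iff.1 hn _).1 hcx)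
      refine (hN x).2 ⟨hx.1, hx.2, w, hw, fun y hy => ?_⟩
      lift y to P using hy
      have h := hwe ((n : MulAut P) y)
      simp only [MulAut.mul_apply, MulAut.inv_apply_self] at h
      rw [← conjAut_coe hx.2 y, autFn_coe, autFn_coe]
      exact h
    haveI := finite_of_le_base (normalizerIn_le : normalizerIn (T ⊓ T₁) P ≤ T ⊓ T₁)
    have hgE := (hbig _ g (Set.Finite.card_lt_card (Set.toFinite (normalizerIn (T ⊓ T₁) P : Set Ω))
      (lt_normalizerIn hWp hPlt)) (hg.mono hNN)).mono (le_normalizerIn hc.1)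
    have hnE : (n : MulAut P) ∈ (meetSys st).autGroup P := (mem_autGroup_iff_fn hc.1).2 (hgE.congr hge)
    have ha' : a = (n : MulAut P) * (k : MulAut P) := (congrArg Subtype.val hnk).symm
    rw [ha']
    exact mul_mem hnE (kGen_le_meetSys st hc hk)

end CfsgLib.Fsys.Meet
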