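import Cfsg.Agent.Lib.FusionSystem.Meet.GroupFusion

/-! The Frattini condition for the meet. -/

set_option autoImplicit false

namespace CfsgLib.Fsys.Meet

open Cfsg Cfsg.FusionSystem CfsgLib.Fsys.WNR
open Cfsg.FusionSystem (centralizerIn normalizerIn)

universe u

variable {Ω : Type u} [Group Ω] {S T T₁ U : Subgroup Ω} {F : FusionSystem S} {D : FusionSystem T}
  {D₁ : FusionSystem T₁} {P Q : Subgroup Ω} {p : ℕ} [Fact p.Prime] [Finite S]

/-- Every conjugate of `Q` maps into it on its normalizer, up to an automorphism of `U`. -/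
structure Rep (p : ℕ) (F : FusionSystem S) (D : FusionSystem T) (D₁ : FusionSystem T₁) (U Q : Subgroup Ω) : Prop where
  le : Q ≤ T ⊓ T₁
  norm : ∀ R : Subgroup Ω, F.IsConj Q R → Nat.card (normalizerIn U R) ≤ Nat.card (normalizerIn U Q)
  sylow : ¬ p ∣ (autInducedBy (T ⊓ T₁) Q).relIndex (kGen p F D D₁ Q)
  cent : ¬ WCentric F (T ⊓ T₁) Q → ¬ centralizerIn (T ⊓ T₁) Q ≤ Q

variable (st : Setup F D D₁ p)
include st

theorem rep_of_aut (hU : F.StronglyClosed U) (hW : T ⊓ T₁ ≤ U) (hQW : Q ≤ T ⊓ T₁) {α : MulAut U}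
    (hα : α ∈ F.autGroup U) {Q₀ : Subgroup Ω} (hi : img (autFn α) Q = Q₀) (hQ₀ : Nice F Q₀) :
    Rep p F D D₁ U Q := by
  have hαf : Fn F U (autFn α) := (mem_autGroup_iff_fn hU.1).1 hα
  have hαi : Fn F U (autFn α⁻¹) := (mem_autGroup_iff_fn hU.1).1 (inv_mem hα)
  have hQU : Q ≤ U := hQW.trans hW
  have hQ₀U : Q₀ ≤ U := hi ▸ img_le fun x hx => autFn_mem α (hQU hx)
  have hQ₀W : Q₀ ≤ T ⊓ T₁ := hi ▸ img_le fun x hx => sc_apply st.sc hαf (hQU hx) (hQW hx)
  have hi' : img (autFn α⁻¹) Q₀ = Q := by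
    rw [← hi, ← (hαf.mono hQU).img_comp]
    exact (img_congr (g := id) fun x hx => autFn_inv_apply α (hQU hx)).trans (img_id Q)
  have hconj : F.IsConj Q Q₀ := hi ▸ isConj_of_fn (hαf.mono hQU)
  have hgood := (fullyNormalized_good st.isp st.sat hQ₀.1).1
  have hrec := fullyNormalized_receptive st.isp st.sat hQ₀.1
  refine ⟨hQW, fun R hR => ?_, ?_, fun hnc hle => hnc ⟨hQW, fun Z hZ c hc => ?_⟩⟩
  · obtain ⟨g, hg, hgm, -⟩ := exists_normalizer_map st.isp hgood hrec (isConj_trans (isConj_symm hR) hconj)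
    have hle : normalizerIn U R ≤ normalizerIn S R := inf_le_inf hU.1 le_rfl
    have h1 : Nat.card (normalizerIn U R) ≤ Nat.card (normalizerIn U Q₀) :=
      card_le_of_map_le (inf_le_left.trans hU.1) (hg.mono hle) fun n hn =>
        ⟨sc_apply hU hg (hle hn) hn.1, (hgm n (hle hn)).2⟩
    refine h1.trans (card_le_of_map_le (inf_le_left.trans hU.1) (hαi.mono inf_le_left) fun n hn =>
      ⟨autFn_mem _ hn.1, (hαi.map_normalizer hQ₀U hi' hn.1 hn.2).2⟩)
  · obtain ⟨e, he, -⟩ := exists_transport (hQU.trans hU.1) (hαf.mono hQU) hi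
    have hmap : (kGen p F D D₁ Q).map (MulAut.congr e).toMonoidHom = kGen p F D D₁ Q₀ := by
      refine le_antisymm ?_ fun b hb => ?_
      · rintro _ ⟨a, ha, rfl⟩
        exact kGen_congr (hαf.mono hQU) hi e he ha
      · refine ⟨MulAut.congr e.symm b, kGen_congr (hαi.mono hQ₀U) hi' e.symm (fun y => ?_) hb,
          MulEquiv.ext fun y => by simp [MulAut.congr]⟩
        obtain ⟨x, rfl⟩ := e.surjective y
        rw [MulEquiv.symm_apply_apply, he, autFn_inv_apply α (hQU x.2)]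
    have hmapW : (autInducedBy (T ⊓ T₁) Q).map (MulAut.congr e).toMonoidHom = autInducedBy (T ⊓ T₁) Q₀ := by
      refine le_antisymm ?_ fun b hb => ?_
      · rintro _ ⟨a, ha, rfl⟩
        obtain ⟨w, hw, hwa⟩ := mem_autInducedBy.1 ha
        refine mem_autInducedBy.2 ⟨autFn α w, sc_apply st.sc hαf (hW hw) hw, fun y => ?_⟩
        obtain ⟨x, rfl⟩ := e.surjective y
        show (((MulAut.congr e a) (e x) : Q₀) : Ω) = _
        rw [show (MulAut.congr e a) (e x) = e (a x) by simp [MulAut.congr], he, he, hwa,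
          hαf.map_conj (hW hw) (hQU x.2)]
      · obtain ⟨w, hw, hwb⟩ := mem_autInducedBy.1 hb
        refine ⟨MulAut.congr e.symm b, mem_autInducedBy.2 ⟨autFn α⁻¹ w, sc_apply st.sc hαi (hW hw) hw,
          fun x => ?_⟩, MulEquiv.ext fun y => by simp [MulAut.congr]⟩
        have hy : ((e x : Q₀) : Ω) ∈ U := hQ₀U (e x).2
        have hsym : ∀ z : Q₀, ((e.symm z : Q) : Ω) = autFn α⁻¹ (z : Ω) := fun z => by
          obtain ⟨x', rfl⟩ := e.surjective z
          rw [MulEquiv.symm_apply_apply, he, autFn_inv_apply α (hQU x'.2)]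
        rw [show (MulAut.congr e.symm b) x = e.symm (b (e x)) by simp [MulAut.congr], hsym, hwb,
          hαi.map_conj (hW hw) hy, he, autFn_inv_apply α (hQU x.2)]
    intro h
    refine kGen_sylow st hQ₀W hQ₀ ?_
    rwa [← hmap, ← hmapW, Subgroup.relIndex_map_map_of_injective _ _ (MulAut.congr e).injective]
  · obtain ⟨g, hg, -, hgi⟩ := exists_normalizer_map st.isp hgood hrec (isConj_trans (isConj_symm hZ) hconj)
    have hZS := isConj_le_right hZ
    have hcN := centralizerIn_le_normalizerIn (S := S)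
      (show c ∈ centralizerIn S Z from ⟨st.sc.1 hc.1, hc.2⟩)
    have hgc := hg.map_centralizer (le_normalizerIn hZS) hgi hcN ⟨st.sc.1 hc.1, hc.2⟩
    have hgcW : g c ∈ T ⊓ T₁ := sc_apply st.sc hg hcN hc.1
    have hαgc := hαi.map_centralizer (n := g c) hQ₀U hi' (hW hgcW) hgc
    have hm : autFn α⁻¹ (g c) ∈ Q := hle ⟨sc_apply st.sc hαi (hW hgcW) hgcW, hαgc.2⟩
    obtain ⟨x, hx, hxe⟩ := (hαi.mono hQ₀U).mem_img.1 (hi'.ge hm)
    rw [hαi.inj (hQ₀U hx) (hW hgcW) hxe] at hx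
    obtain ⟨z, hz, hzg⟩ := (hg.mono (le_normalizerIn hZS)).mem_img.1 (hgi.ge hx)
    rwa [← hg.inj (le_normalizerIn hZS hz) hcN hzg]

/-- A map decomposing through the automorphisms of the base. -/
def Dec (G : FusionSystem U) (P : Subgroup Ω) (f : Ω → Ω) : Prop :=
  ∃ α ∈ G.autGroup (T ⊓ T₁), ∃ e, Fn (meetSys st) P e ∧ ∀ x ∈ P, f x = autFn α (e x)

theorem dec_comp {G : FusionSystem U} (hGF : G.IsSubsystemOf F) {f g : Ω → Ω} (hf : Fn F P f)
    (hdf : Dec st G P f) (hdg : Dec st G (img f P) g) : Dec st G P (g ∘ f) := by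
  obtain ⟨α, hα, e, he, hfe⟩ := hdf
  obtain ⟨β, hβ, e', he', hge⟩ := hdg
  obtain ⟨χ, hχ, hχe⟩ := meetSys_transform st (inv_mem (autGroup_mono' hGF _ hα)) he'
  have hi : img (autFn α⁻¹) (img f P) = img e P := by
    rw [← hf.img_comp]
    exact img_congr fun x hx => by
      show autFn α⁻¹ (f x) = e x
      rw [hfe x hx, autFn_inv_apply α (he.mem hx)]
  rw [hi] at hχ
  refine ⟨β * α, mul_mem hβ hα, χ ∘ e, he.comp hχ fun x hx => mem_img_of_mem hx, fun x hx => ?_⟩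
  have hfx : f x ∈ img f P := mem_img_of_mem hx
  have h2 := hχe _ hfx
  rw [hfe x hx, autFn_inv_apply α (he.mem hx), ← hfe x hx] at h2
  show g (f x) = autFn (β * α) (χ (e x))
  rw [h2, hge _ hfx, autFn_mul _ _ (autFn_mem _ (he'.mem hfx)), autFn_apply_inv α (he'.mem hfx)]

theorem dec_inv {G : FusionSystem U} (hGF : G.IsSubsystemOf F) {f g : Ω → Ω} (hf : Fn F P f)
    (hgf : ∀ x ∈ P, g (f x) = x) (hdf : Dec st G P f) : Dec st G (img f P) g := by
  obtain ⟨α, hα, e, he, hfe⟩ := hdf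
  obtain ⟨e', he', he'e, -⟩ := he.exists_inv
  obtain ⟨χ, hχ, hχe⟩ := meetSys_transform st (autGroup_mono' hGF _ hα) he'
  have hi : img (autFn α) (img e P) = img f P :=
    he.img_comp.symm.trans (img_congr fun x hx => (hfe x hx).symm)
  rw [hi] at hχ
  refine ⟨α⁻¹, inv_mem hα, χ, hχ, fun y hy => ?_⟩
  obtain ⟨x, hx, rfl⟩ := hf.mem_img.1 hy
  rw [hgf x hx, hfe x hx, hχe _ (mem_img_of_mem hx), he'e x hx, autFn_inv_apply α (he.le hx)]

variable {G : FusionSystem U} (hGs : G.IsSaturated p) (hGF : G.IsSubsystemOf F) (hU : F.StronglyClosed U)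
  (hW : T ⊓ T₁ ≤ U) (hK : ∀ Y, Y ≤ T ⊓ T₁ → kGen p F D D₁ Y ≤ G.autGroup Y)
include hGs hGF hU hW hK

theorem rep_fullyNormalized (hQ : Rep p F D D₁ U Q) : G.IsFullyNormalized Q := by
  refine ⟨hQ.le.trans hW, fun R hR => hQ.norm R ?_⟩
  obtain ⟨φ, hφ, hr⟩ := hR
  exact ⟨φ, hGF Q hφ, hr⟩

/-- Automorphisms of a representative decompose, given decompositions of the larger maps. -/
theorem dec_aut (hQ : Rep p F D D₁ U Q) (hQW : Q < T ⊓ T₁) {a : MulAut Q} (ha : a ∈ G.autGroup Q)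
    (ih : ∀ R ≤ T ⊓ T₁, Nat.card Q < Nat.card R → ∀ f, Fn G R f → Dec st G R f) : Dec st G Q (autFn a) := by
  classical
  have hQU := hQ.le.trans hW
  haveI := finite_of_le_base hU.1
  haveI := finite_of_le_base (hQU.trans hU.1)
  haveI : Finite (MulAut Q) := Finite.of_injective (fun f : MulAut Q => (f : Q → Q)) DFunLike.coe_injective
  have hUp := st.isp.to_le hU.1
  have hWS := st.sc.1
  haveI := finite_of_le_base hWS
  have hrec := fullyNormalized_receptive hUp hGs (rep_fullyNormalized st hGs hGF hU hW hK hQ)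
  have hrestr : ∀ {R : Subgroup Ω} {f : Ω → Ω}, Q < R → R ≤ T ⊓ T₁ → Fn G R f → Dec st G Q f := by
    intro R f hQR hR hf
    haveI := finite_of_le_base (hR.trans hWS)
    obtain ⟨α, hα, e, he, hfe⟩ := ih R hR (Set.Finite.card_lt_card (Set.toFinite (R : Set Ω)) hQR) f hf
    exact ⟨α, hα, e, he.mono hQR.le, fun x hx => hfe x (hQR.le hx)⟩
  by_cases hc : WCentric F (T ⊓ T₁) Q
  · set A := G.autGroup Q
    set K := kGen p F D D₁ Q
    set B := autInducedBy (T ⊓ T₁) Q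
    have hBK : B ≤ K := autInducedBy_le_kGen st hQ.le
    have hKA : K ≤ A := hK Q hQ.le
    haveI : (K.subgroupOf A).Normal := ⟨fun k hk b =>
      kGen_conj (hQU.trans hU.1) (autGroup_mono' hGF Q b.2) hk⟩
    have hi : ¬ p ∣ (B.subgroupOf A).relIndex (K.subgroupOf A) := by
      rw [Subgroup.relIndex_subgroupOf hKA]
      exact hQ.sylow
    let Syl : Sylow p ↥(K.subgroupOf A) := CfsgLib.Fusion.Basic.sylowSubgroupOf
      (fun x hx => hBK hx : B.subgroupOf A ≤ K.subgroupOf A)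
      ((isPGroup_autInducedBy (st.isp.to_le hWS)).comap_of_injective _ (Subgroup.subtype_injective _)) hi
    have hmem : (⟨a, ha⟩ : A) ∈
        ((Subgroup.normalizer ((B.subgroupOf A : Subgroup A) : Set A) ⊔ K.subgroupOf A : Subgroup A) : Set A) := by
      have h := Sylow.normalizer_sup_eq_top Syl
      rw [show (Syl : Subgroup ↥(K.subgroupOf A)).map (K.subgroupOf A).subtype = B.subgroupOf A from
        CfsgLib.Fusion.Basic.map_sylowSubgroupOf _ _ hi] at h
      rw [h]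
      exact Subgroup.mem_top _
    rw [Subgroup.mul_normal] at hmem
    obtain ⟨n, hn, k, hk, hnk⟩ := hmem
    obtain ⟨N, g, hg, hQN, hN, hge⟩ := receptive_extend hrec
      ((mem_autGroup_iff_fn hQU).1 n.2) (img_autFn (n : MulAut Q))
    have hNN : normalizerIn (T ⊓ T₁) Q ≤ N := fun x hx => by
      have hcx : (⟨conjAut Q hx.2, hKA (hBK (conjAut_mem_autInducedBy hx.2 hx.1))⟩ : A) ∈ B.subgroupOf A :=
        conjAut_mem_autInducedBy hx.2 hx.1
      obtain ⟨w, hw, hwe⟩ := mem_autInducedBy.1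
        (show ((n : MulAut Q) * conjAut Q hx.2 * (n : MulAut Q)⁻¹) ∈ B from
          (Subgroup.mem_normalizer_iff.1 hn _).1 hcx)
      refine (hN x).2 ⟨hW hx.1, hx.2, w, hW hw, fun y hy => ?_⟩
      lift y to Q using hy
      have h := hwe ((n : MulAut Q) y)
      simp only [MulAut.mul_apply, MulAut.inv_apply_self] at h
      rw [← conjAut_coe hx.2 y, autFn_coe, autFn_coe]
      exact h
    obtain ⟨α, hα, e, he, hne⟩ := hrestr (lt_normalizerIn (st.isp.to_le hWS) hQW) normalizerIn_le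
      (hg.mono hNN)
    refine ⟨α, hα, e ∘ autFn (k : MulAut Q), ((mem_autGroup_iff_fn hc.1).1 (kGen_le_meetSys st hc hk)).comp he
      fun x hx => autFn_mem _ hx, fun x hx => ?_⟩
    have ha' : a = (n : MulAut Q) * (k : MulAut Q) := (congrArg Subtype.val hnk).symm
    rw [ha', autFn_mul _ _ hx, ← hge _ (autFn_mem _ hx), hne _ (autFn_mem _ hx)]
    rfl
  · obtain ⟨N, g, hg, hQN, hN, hge⟩ := receptive_extend hrec ((mem_autGroup_iff_fn hQU).1 ha) (img_autFn a)
    have hX : Q ⊔ centralizerIn (T ⊓ T₁) Q ≤ N :=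
      sup_le hQN fun c hc' => (hN c).2 (inExt_of_commute ⟨hW hc'.1, hc'.2⟩)
    obtain ⟨α, hα, e, he, hge'⟩ := hrestr (lt_of_le_of_ne le_sup_left fun h => hQ.cent hc (le_sup_right.trans h.ge))
      (sup_le hQ.le inf_le_left) (hg.mono hX)
    exact ⟨α, hα, e, he, fun x hx => by rw [← hge x hx, hge' x hx]⟩

/-- Every map of `G` below `T ⊓ T₁` decomposes. -/
theorem frattini (hrep : ∀ R ≤ T ⊓ T₁, ∃ Q g, Fn G R g ∧ img g R = Q ∧ Rep p F D D₁ U Q)
    (hP : P ≤ T ⊓ T₁) {f : Ω → Ω} (hf : Fn G P f) : Dec st G P f := by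
  have hWS := st.sc.1
  haveI := finite_of_le_base hWS
  haveI := finite_of_le_base hU.1
  have hUp := st.isp.to_le hU.1
  refine induction_down (S := T ⊓ T₁) (C := fun P => ∀ f, Fn G P f → Dec st G P f) P hP ?_ f hf
  intro P hP ih f hf
  rcases eq_or_lt_of_le hP with rfl | hlt
  · have hfF := hf.of_subsystem hGF
    obtain ⟨α, hα, hαe⟩ := exists_aut_of_fn hf (hf.img_eq_self fun x hx => sc_apply st.sc hfF hx hx)
    exact ⟨α, hα, id, fn_id le_rfl, fun x hx => ((autFn_coe α ⟨x, hx⟩).trans (hαe _)).symm⟩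
  have hfF := hf.of_subsystem hGF
  obtain ⟨Q, g₀, hg₀, hg₀i, hQ⟩ := hrep P hP
  have hPQ : G.IsConj P Q := isConj_iff.2 ⟨g₀, hg₀, hg₀i⟩
  have hQn := rep_fullyNormalized st hGs hGF hU hW hK hQ
  have hgood := (fullyNormalized_good hUp hGs hQn).1
  have hrec := fullyNormalized_receptive hUp hGs hQn
  have hcard : Nat.card Q = Nat.card P := isConj_card hPQ
  have hQW : Q < T ⊓ T₁ := lt_of_le_of_ne hQ.le fun e => hlt.ne <|
    eq_of_le_of_card le_rfl hP (by rw [← hcard, e])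
  set P' := img f P
  have hP'W : P' ≤ T ⊓ T₁ := img_le fun x hx => sc_apply st.sc hfF hx (hP hx)
  have hP'lt : P' < T ⊓ T₁ := lt_of_le_of_ne hP'W fun e => hlt.ne
    (eq_of_le_of_card le_rfl hP ((congrArg (fun X : Subgroup Ω => Nat.card X) e).symm.trans hf.card_img).le)
  have hext : ∀ R, R < T ⊓ T₁ → Nat.card P ≤ Nat.card R → G.IsConj R Q →
      ∃ g, Fn G R g ∧ img g R = Q ∧ Dec st G R g := by
    intro R hR hRc hRQ
    obtain ⟨g, hg, -, hgi⟩ := exists_normalizer_map hUp hgood hrec hRQ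
    have hle : normalizerIn (T ⊓ T₁) R ≤ normalizerIn U R := inf_le_inf hW le_rfl
    have hN : normalizerIn (T ⊓ T₁) R ≤ T ⊓ T₁ := normalizerIn_le
    haveI := finite_of_le_base hN
    obtain ⟨α, hα, e, he, hge⟩ := ih _ hN (lt_of_le_of_lt hRc (Set.Finite.card_lt_card
      (Set.toFinite (normalizerIn (T ⊓ T₁) R : Set Ω)) (lt_normalizerIn (st.isp.to_le hWS) hR))) g (hg.mono hle)
    have hRN : R ≤ normalizerIn (T ⊓ T₁) R := le_normalizerIn hR.le
    exact ⟨g, hg.mono (hRN.trans hle), hgi, α, hα, e, he.mono hRN, fun x hx => hge x (hRN hx)⟩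
  obtain ⟨g, hg, hgi, hgd⟩ := hext P hlt le_rfl hPQ
  obtain ⟨g', hg', hg'i, hg'd⟩ := hext P' hP'lt hf.card_img.ge (isConj_trans (isConj_symm (isConj_of_fn hf)) hPQ)
  obtain ⟨k, hk, hkg, hki⟩ := hg.exists_inv
  rw [hgi] at hk hki
  have hkm : ∀ x ∈ Q, k x ∈ P := fun x hx => hki.le (mem_img_of_mem hx)
  have hc := (hk.comp hf hkm).comp hg' fun x hx => mem_img_of_mem (hkm x hx)
  obtain ⟨a, ha, hae⟩ := exists_aut_of_fn hc (by rw [(hk.comp hf hkm).img_comp, hk.img_comp, hki]; exact hg'i)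
  have hda := dec_aut st hGs hGF hU hW hK hQ hQW ha fun R hR h => ih R hR (hcard ▸ h)
  obtain ⟨k', hk', hk'g, -⟩ := hg'.exists_inv
  have hd' := dec_inv st hGF (hg'.of_subsystem hGF) hk'g hg'd
  rw [hg'i] at hd'
  have hqm : ∀ x ∈ P, g x ∈ Q := fun x hx => hgi.le (mem_img_of_mem hx)
  have h1 : Dec st G P (autFn a ∘ g) := dec_comp st hGF (hg.of_subsystem hGF) hgd (by rwa [hgi])
  have h2f : Fn F P (autFn a ∘ g) := (hg.of_subsystem hGF).comp
    ((mem_autGroup_iff_fn (hQ.le.trans hWS)).1 (autGroup_mono' hGF Q ha)) hqm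
  have h2 : Dec st G P (k' ∘ (autFn a ∘ g)) := dec_comp st hGF h2f h1 (by
    rwa [(hg.of_subsystem hGF).img_comp, hgi, img_autFn])
  obtain ⟨α, hα, e, he, hfe⟩ := h2
  refine ⟨α, hα, e, he, fun x hx => ?_⟩
  rw [← hfe x hx]
  show f x = k' (autFn a (g x))
  rw [autFn_coe a ⟨g x, hqm x hx⟩, hae]
  show f x = k' (g' (f (k (g x))))
  rw [hkg x hx, hk'g _ (mem_img_of_mem hx)]

end CfsgLib.Fsys.Meet
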