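import Cfsg.Agent.Lib.FusionSystem.Meet.Image

/-! The automizer generated at a nice centric subgroup. -/

set_option autoImplicit false

namespace CfsgLib.Fsys.Meet

open Cfsg Cfsg.FusionSystem CfsgLib.Fsys.WNR
open Cfsg.FusionSystem (centralizerIn normalizerIn)
open scoped Pointwise

universe u

variable {Ω : Type u} [Group Ω] {S T T₁ : Subgroup Ω} {F : FusionSystem S} {D : FusionSystem T}
  {D₁ : FusionSystem T₁} {Y Q R : Subgroup Ω} {p : ℕ} [Fact p.Prime] [Finite S] {L : Type u} [Group L]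

/-- Restriction of the action to `Y`. -/
noncomputable def resY (lg : LocalGroup p F Y L) (hY : Y ≤ S) : L →* MulAut Y :=
  MonoidHom.mk' (fun l => (exists_aut_of_fn ((lg.fn_act hY l).mono le_sup_left) (lg.img_act hY l)).choose)
    fun a b => by
      refine mulAut_ext fun y hy => ?_
      have h := fun l => (exists_aut_of_fn ((lg.fn_act hY l).mono le_sup_left) (lg.img_act hY l)).choose_spec.2
      have hb := lg.act_Y b y hy
      rw [autFn_mul _ _ hy, autFn_coe _ ⟨y, hy⟩, autFn_coe _ ⟨y, hy⟩, h, h, autFn_coe _ ⟨_, hb⟩, h, map_mul,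
        autFn_mul _ _ (Subgroup.mem_sup_left hy)]

theorem resY_apply (lg : LocalGroup p F Y L) (hY : Y ≤ S) (l : L) {y : Ω} (hy : y ∈ Y) :
    autFn (resY lg hY l) y = autFn (lg.act l) y := by
  rw [autFn_coe _ ⟨y, hy⟩]
  exact (exists_aut_of_fn ((lg.fn_act hY l).mono le_sup_left) (lg.img_act hY l)).choose_spec.2 ⟨y, hy⟩

theorem resY_emb (lg : LocalGroup p F Y L) (hY : Y ≤ S) (s : normalizerIn S Y) {y : Ω} (hy : y ∈ Y) :
    autFn (resY lg hY (lg.emb s)) y = (s : Ω) * y * (s : Ω)⁻¹ := by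
  rw [resY_apply lg hY _ hy, lg.act_emb _ _ (Subgroup.mem_sup_left hy)]

theorem cj_conj (lg : LocalGroup p F Y L) {s : normalizerIn S Y} {x : Ω} (hx : x ∈ normalizerIn S Y) :
    cj lg.emb (lg.emb s) x = (s : Ω) * x * (s : Ω)⁻¹ :=
  cj_eq lg.inj hx (y := s * ⟨x, hx⟩ * s⁻¹) (by rw [map_mul, map_mul, map_inv])

variable (st : Setup F D D₁ p)
include st

theorem resY_surj (lg : LocalGroup p F Y L) (hY : Y ≤ S) (hfc : F.IsFullyCentralized Y) {b : MulAut Y}
    (hb : b ∈ F.autGroup Y) : ∃ l, resY lg hY l = b := by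
  obtain ⟨g, hg, hgY, hgC, hge⟩ :=
    exists_ext_sup st.isp st.sat hfc hfc ((mem_autGroup_iff_fn hY).1 hb) (img_autFn b)
  obtain ⟨h, hh, hhe⟩ := exists_aut_of_fn hg (by rw [hg.img_sup, hgY, hgC])
  obtain ⟨l, hl⟩ := lg.act_surj h hh fun y hy => by
    rw [autFn_coe h ⟨y, Subgroup.mem_sup_left hy⟩, hhe, hge y hy]
    exact autFn_mem b hy
  refine ⟨l, mulAut_ext fun y hy => ?_⟩
  rw [resY_apply lg hY l hy, hl, autFn_coe h ⟨y, Subgroup.mem_sup_left hy⟩, hhe, hge y hy]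

theorem kGen_le_image (lg : LocalGroup p F Y L) (hY : Y ≤ T ⊓ T₁) (hYn : F.IsFullyNormalized Y) :
    kGen p F D D₁ Y ≤ (mSub st hY lg).map (resY lg (base_le st hY)) := by
  haveI := lg.fin
  have hYS := base_le st hY
  set res := resY lg (base_le st hY)
  refine (Subgroup.closure_le _).2 fun β hβ => ?_
  obtain ⟨f, Q, a, hQ, hf, hfi, ha, hfa⟩ := id hβ
  have hfc := (fullyNormalized_good st.isp st.sat hYn).2
  rcases ha with ha | ⟨hco, -⟩
  · obtain ⟨w, hw, hwa⟩ := mem_autInducedBy.1 ha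
    have hwN : w ∈ normalizerIn S Q := ⟨st.sc.1 hw, mem_normalizer_of_autEq hwa⟩
    obtain ⟨g, hg, hgm, hgi⟩ := exists_normalizer_map st.isp (fullyNormalized_good st.isp st.sat hQ.1).1
      (fullyNormalized_receptive st.isp st.sat hQ.1) (isConj_iff.2 ⟨f, hf, hfi⟩)
    have himg : img g (normalizerIn S Y) = normalizerIn S Q :=
      img_eq_of_card_le normalizerIn_le hg hgm (hYn.2 Q (isConj_iff.2 ⟨f, hf, hfi⟩))
    obtain ⟨k, hk, hkg, hki⟩ := hg.exists_inv
    rw [himg] at hk hki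
    have hkY : img k Q = Y := by
      rw [← hgi, ← (hg.mono (le_normalizerIn hYS)).img_comp]
      exact (img_congr fun x hx => hkg x (le_normalizerIn hYS hx)).trans (img_id Y)
    have hQN : Q ≤ normalizerIn S Q := le_normalizerIn hQ.1.1
    have hfm : ∀ x ∈ Y, f x ∈ normalizerIn S Q := fun x hx => hQN (hfi.le (mem_img_of_mem hx))
    obtain ⟨b, hb, hbe⟩ := exists_aut_of_fn (hf.comp hk hfm) (by rw [hf.img_comp, hfi, hkY])
    obtain ⟨l, hl⟩ := resY_surj st lg hYS hfc hb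
    have hwY : k w ∈ normalizerIn S Y := hki.le (mem_img_of_mem hwN)
    have hwW : k w ∈ T ⊓ T₁ := sc_apply st.sc hk hwN hw
    have key : b * β * b⁻¹ = res (lg.emb ⟨k w, hwY⟩) := by
      refine mulAut_ext fun y hy => ?_
      have hz : autFn b⁻¹ y ∈ Y := autFn_mem _ hy
      have hfz : f (autFn b⁻¹ y) ∈ Q := hfi.le (mem_img_of_mem hz)
      have hby : k (f (autFn b⁻¹ y)) = y := by
        have h1 := autFn_apply_inv b hy
        rwa [autFn_coe b ⟨_, hz⟩, hbe] at h1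
      rw [resY_emb lg hYS _ hy, autFn_mul _ _ hy, autFn_mul _ _ hz, autFn_coe b ⟨_, autFn_mem β hz⟩, hbe]
      show k (f (autFn β (autFn b⁻¹ y))) = _
      rw [hfa _ hz, autFn_coe a ⟨_, hfz⟩, hwa, hk.map_conj hwN (hQN hfz), hby]
    have hmem : lg.emb ⟨k w, hwY⟩ ∈ mSub st hY lg :=
      Subgroup.mem_sup_right (Subgroup.mem_map_of_mem lg.emb hwW)
    refine ⟨l⁻¹ * lg.emb ⟨k w, hwY⟩ * l⁻¹⁻¹, (mSub_normal st hY lg).conj_mem _ hmem l⁻¹, ?_⟩
    rw [inv_inv, map_mul, map_mul, map_inv, hl, ← key]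
    simp [mul_assoc]
  · obtain ⟨h, hh, hhβ, hhd, hhD, hhD₁⟩ := kGen_le_liftSub st hY hfc (Subgroup.subset_closure hβ)
    obtain ⟨-, -, hhV⟩ := CompatLift.img_eq hh hhβ
    obtain ⟨η, hη, hηe⟩ := exists_aut_of_fn hh hhV
    have hηh : ∀ v ∈ Y ⊔ centralizerIn S Y, autFn η v = h v := fun v hv =>
      (autFn_coe η ⟨v, hv⟩).trans (hηe ⟨v, hv⟩)
    obtain ⟨l, hl⟩ := lg.act_surj η hη fun y hy => by
      rw [hηh y (Subgroup.mem_sup_left hy), hhβ y hy]
      exact autFn_mem β hy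
    have hlX : l ∈ xSub st hY lg := by
      refine ⟨fun c hc => ?_, hhD.congr fun x hx => ?_, hhD₁.congr fun x hx => ?_⟩
      · rw [hl, hηh c (Subgroup.mem_sup_right hc)]
        exact hhd c hc
      · rw [hl, hηh x (sub_le_sup st.wn.2.2.2.1.1 hx)]
      · rw [hl, hηh x (sub_le_sup st.wn₁.2.2.2.1.1 hx)]
    have hres : res l = β := mulAut_ext fun y hy => by
      rw [resY_apply lg hYS l hy, hl, hηh y (Subgroup.mem_sup_left hy), hhβ y hy]
    have hβco : Nat.Coprime (orderOf β) p := by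
      refine Nat.Coprime.coprime_dvd_left (orderOf_dvd_of_pow_eq_one ?_) hco
      have hj : ∀ j : ℕ, ∀ y ∈ Y, f (autFn (β ^ j) y) = autFn (a ^ j) (f y) := fun j => by
        induction j with
        | zero => intro y hy; rw [pow_zero, pow_zero, autFn_id hy, autFn_id (hfi.le (mem_img_of_mem hy))]
        | succ j ih =>
          intro y hy
          rw [pow_succ, pow_succ, autFn_mul _ _ hy, ih _ (autFn_mem β hy), hfa y hy,
            autFn_mul _ _ (hfi.le (mem_img_of_mem hy))]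
      refine mulAut_ext fun y hy => hf.inj (autFn_mem _ hy) (autFn_mem _ hy) ?_
      rw [hj _ y hy, pow_orderOf_eq_one, autFn_id (hfi.le (mem_img_of_mem hy)), autFn_id hy]
    obtain ⟨n, r, k, hm, hr, -, hnk, hn1⟩ := exists_exponent (p := p) 0 (orderOf_pos l)
    have hlco := coprime_orderOf_pow hm hr hnk (pow_orderOf_eq_one l)
    refine ⟨l ^ n, Subgroup.mem_sup_left ⟨⟨l ^ n, Subgroup.pow_mem _ hlX n⟩,
      CfsgLib.Fusion.Basic.mem_pResidual_of_coprime (by rwa [Subgroup.orderOf_mk]), rfl⟩, ?_⟩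
    rw [map_pow, hres]
    refine pow_eq_self (orderOf_dvd_iff_pow_eq_one.1 (Nat.Coprime.dvd_of_dvd_mul_left (hβco.pow_right k) ?_)) hn1
    rw [← hm]
    exact hres ▸ orderOf_map_dvd res l

/-- At a nice subgroup `N_W(Y)` gives a Sylow subgroup of the generated group. -/
theorem kGen_sylow (hY : Y ≤ T ⊓ T₁) (hn : Nice F Y) :
    ¬ p ∣ (autInducedBy (T ⊓ T₁) Y).relIndex (kGen p F D D₁ Y) := by
  obtain ⟨L, hL, ⟨lg⟩⟩ := exists_local (p := p) st.isp st.sat hn
  letI := hL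
  haveI := lg.fin
  have hYS := base_le st hY
  set res := resY lg (base_le st hY)
  set f' := res.subgroupMap (mSub st hY lg)
  have h1 : (((wRange (T ⊓ T₁) lg).subgroupOf (mSub st hY lg)).map f') ≤
      (autInducedBy (T ⊓ T₁) Y).subgroupOf ((mSub st hY lg).map res) := by
    rintro _ ⟨m, hm, rfl⟩
    obtain ⟨w, hw, hwm⟩ := hm
    show res (m : L) ∈ autInducedBy (T ⊓ T₁) Y
    refine mem_autInducedBy.2 ⟨w, hw, fun y => ?_⟩
    rw [← autFn_coe, show (m : L) = lg.emb w from hwm.symm]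
    exact resY_emb lg hYS w y.2
  intro hdvd
  refine mSub_sylow st hY lg hn.1 (hdvd.trans ?_)
  have hK := kGen_le_image st lg hY hn.1
  refine (Dvd.intro _ (Subgroup.relIndex_mul_relIndex _ _ _ (autInducedBy_le_kGen st hY) hK)).trans ?_
  exact (Subgroup.index_dvd_of_le h1).trans
    (Subgroup.index_map_dvd _ (MonoidHom.subgroupMap_surjective res (mSub st hY lg)))

/-- A coprime element of the compatible group preserving `R` gives a generator at `R`. -/
theorem kGen_of_coprime (lg : LocalGroup p F Y L) (hY : WCentric F (T ⊓ T₁) Y) (hYn : F.IsFullyNormalized Y)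
    (hYR : Y ≤ R) (hRW : R ≤ T ⊓ T₁) (hRN : R ≤ normalizerIn S Y) {n : L} (hn : n ∈ xSub st hY.1 lg)
    (hco : Nat.Coprime (orderOf n) p) {ν : MulAut R}
    (hν : ∀ x : R, ∃ y : normalizerIn S Y,
      lg.emb y = n * lg.emb ⟨x, hRN x.2⟩ * n⁻¹ ∧ (y : Ω) = autFn ν x) :
    ν ∈ kGen p F D D₁ R := by
  haveI := lg.fin
  have hYS : Y ≤ S := hY.1.trans st.sc.1
  haveI := finite_of_le_base (normalizerIn_le (S := S) (P := Y))
  let Dom : Type u := {l : L // ∀ x ∈ R, ∃ (hx : x ∈ normalizerIn S Y) (y : normalizerIn S Y),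
    lg.emb y = l * lg.emb ⟨x, hx⟩ * l⁻¹}
  haveI : Nonempty Dom := ⟨⟨1, fun x hx => ⟨hRN hx, ⟨x, hRN hx⟩, by simp⟩⟩⟩
  obtain ⟨⟨l, hl⟩, hmax⟩ :=
    Finite.exists_max fun l : Dom => Nat.card (centralizerIn S (img (cj lg.emb l.1) R))
  have hlf : Fn F R (cj lg.emb l) := lg.realize l R hRN hl
  set R' := img (cj lg.emb l) R with hR'
  have hR'N : R' ≤ normalizerIn S Y := img_le fun x hx => by
    obtain ⟨hxN, y, hy⟩ := hl x hx
    rw [cj_eq lg.inj hxN hy]
    exact y.2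
  have hR'W : R' ≤ T ⊓ T₁ := img_le fun x hx => sc_apply st.sc hlf hx (hRW hx)
  have hYR' : Y ≤ R' := by
    refine (lg.img_act hYS l).ge.trans ((img_congr fun y hy => ?_).le.trans (img_mono hYR))
    exact ((lg.rel l y (Subgroup.mem_sup_left hy)).1).symm
  have hR'S : R' ≤ S := hR'W.trans st.sc.1
  have hR'c : F.IsFullyCentralized R' := by
    refine ⟨hR'S, fun Z hZ => ?_⟩
    obtain ⟨f, hf, rfl⟩ := isConj_iff.1 hZ
    have hfY := hf.mono hYR'
    obtain ⟨u, hu, hum, hui⟩ := exists_normalizer_map st.isp (fullyNormalized_good st.isp st.sat hYn).1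
      (fullyNormalized_receptive st.isp st.sat hYn) (isConj_symm (isConj_of_fn hfY))
    have hfN : ∀ x ∈ R', f x ∈ normalizerIn S (img f Y) := fun x hx =>
      hf.map_normalizer hYR' rfl hx (hR'N hx).2
    have hφ := hf.comp hu hfN
    have hφY : img (u ∘ f) Y = Y := by rw [hfY.img_comp, hui]
    obtain ⟨N', k, hk, hYN', hN', hke⟩ := receptive_extend (fullyNormalized_receptive st.isp st.sat hYn)
      (hφ.mono hYR') hφY
    have hR'N' : R' ≤ N' := fun x hx => (hN' x).2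
      ⟨hR'S hx, (hR'N hx).2, (u ∘ f) x, hφ.mem hx, fun y hy => hφ.map_conj hx (hYR' hy)⟩
    have hCN' : centralizerIn S Y ≤ N' := fun c hc => (hN' c).2 (inExt_of_commute hc)
    have hkP := hk.mono (sup_le hR'N' (sup_le hYN' hCN'))
    have hkY : img k Y = Y := (img_congr hke).trans hφY
    obtain ⟨l', hl'⟩ := lg.realize_inv _ k hkP le_sup_right (sup_le hR'N (sup_le_normalizer hYS)) hkY
    have hφR : img (u ∘ f) R' = img k R' := by
      refine eq_of_le_of_card (hk.mono hR'N').img_le_base (img_le fun x hx => ?_)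
        ((hk.mono hR'N').card_img.trans hφ.card_img.symm).le
      have hkx : k x ∈ T ⊓ T₁ := sc_apply st.sc hk (hR'N' hx) (hR'W hx)
      have hφx : (u ∘ f) x ∈ T ⊓ T₁ := sc_apply st.sc hφ hx (hR'W hx)
      have hz : (k x)⁻¹ * (u ∘ f) x ∈ Y := hY.2 Y (isConj_refl hYS) (mem_centralizerIn.2
        ⟨Subgroup.mul_mem _ (Subgroup.inv_mem _ hkx) hφx, fun y hy => by
          obtain ⟨y₀, hy₀, rfl⟩ := (hk.mono hYN').mem_img.1 (hkY.ge hy)
          have hxy := (mem_normalizer_iff'.1 (hR'N hx).2).1 y₀ hy₀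
          have e1 := hk.map_conj (hR'N' hx) (hYN' hy₀)
          rw [hke _ hxy, hφ.map_conj hx (hYR' hy₀), hke y₀ hy₀] at e1
          rw [hke y₀ hy₀]
          calc (u ∘ f) y₀ * ((k x)⁻¹ * (u ∘ f) x)
              = (k x)⁻¹ * (k x * (u ∘ f) y₀ * (k x)⁻¹) * (u ∘ f) x := by group
            _ = (k x)⁻¹ * ((u ∘ f) x * (u ∘ f) y₀ * ((u ∘ f) x)⁻¹) * (u ∘ f) x := by rw [e1]
            _ = _ := by group⟩)
      have h1 : (u ∘ f) x = k x * ((k x)⁻¹ * (u ∘ f) x) := (mul_inv_cancel_left _ _).symm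
      rw [h1]
      exact Subgroup.mul_mem _ (mem_img_of_mem hx) (img_mono hYR' (hkY.ge hz))
    have hdom : ∀ x ∈ R, ∃ (hx : x ∈ normalizerIn S Y) (y : normalizerIn S Y),
        lg.emb y = l' * l * lg.emb ⟨x, hx⟩ * (l' * l)⁻¹ ∧ (y : Ω) = k (cj lg.emb l x) := fun x hx => by
      obtain ⟨hxN, y, hy⟩ := hl x hx
      have hyv := cj_eq lg.inj hxN hy
      obtain ⟨hyN, z, hz, hzk⟩ := hl' (y : Ω) (Subgroup.mem_sup_left (hyv ▸ mem_img_of_mem hx))
      refine ⟨hxN, z, ?_, by rw [hzk, hyv]⟩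
      rw [hz, show (⟨(y : Ω), hyN⟩ : normalizerIn S Y) = y from rfl, hy]
      group
    have hmax' := hmax ⟨l' * l, fun x hx => let ⟨hx, y, hy, _⟩ := hdom x hx; ⟨hx, y, hy⟩⟩
    have himg : img (cj lg.emb (l' * l)) R = img k R' := by
      rw [hR', ← hlf.img_comp]
      refine img_congr fun x hx => ?_
      obtain ⟨hxN, y, hy, hyk⟩ := hdom x hx
      exact (cj_eq lg.inj hxN hy).trans hyk
    simp only [himg, ← hφR] at hmax'
    refine le_trans ?_ hmax'
    have hle : centralizerIn S (img f R') ≤ normalizerIn S (img f Y) := fun c hc =>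
      centralizerIn_le_normalizerIn
        (mem_centralizerIn.2 ⟨hc.1, fun y hy => (mem_centralizerIn.1 hc).2 y (img_mono hYR' hy)⟩)
    exact card_le_of_map_le centralizerIn_le (hu.mono hle) fun c hc =>
      hu.map_centralizer (img_le hfN) hf.img_comp.symm (hle hc) hc
  obtain ⟨e, he, -⟩ := exists_transport hlf.le hlf (Q := R) (P := R') rfl
  haveI := xSub_normal st hY.1 lg
  obtain ⟨hco', hlift⟩ := compatLift_restrict st lg hY hYn hYR' hR'W hR'N (n := l * n * l⁻¹)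
    (ν := MulAut.congr e ν) (Subgroup.Normal.conj_mem inferInstance n hn l)
    (by rwa [show l * n * l⁻¹ = MulAut.conj l n from rfl, MulEquiv.orderOf_eq]) fun x' => by
      obtain ⟨x, rfl⟩ := e.surjective x'
      obtain ⟨y, hy, hyν⟩ := hν x
      obtain ⟨hxN, u, hu⟩ := hl x x.2
      obtain ⟨hyN, z, hz⟩ := hl (y : Ω) (hyν ▸ autFn_mem ν x.2)
      refine ⟨z, ?_, ?_⟩
      · rw [hz, show (⟨((e x : R') : Ω), hR'N (e x).2⟩ : normalizerIn S Y) = u from
          Subtype.ext ((he x).trans (cj_eq lg.inj hxN hu)), hu,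
          show (⟨(y : Ω), hyN⟩ : normalizerIn S Y) = y from rfl, hy]
        group
      · rw [← cj_eq lg.inj hyN hz, autFn_coe,
          show (MulAut.congr e ν) (e x) = e (ν x) by simp [MulAut.congr], he, ← autFn_coe ν x, ← hyν]
  obtain ⟨Q, hQ, hQn⟩ := exists_nice (p := p) st.isp st.sat hR'S
  obtain ⟨f, hf, hfi⟩ := isConj_iff.1 hQ
  obtain ⟨g, hg, hgi, hgC, -⟩ :=
    exists_ext_sup st.isp st.sat hR'c (fullyNormalized_good st.isp st.sat hQn.1).2 hf hfi
  have hgR := hg.mono (le_sup_left : R' ≤ _)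
  obtain ⟨e₂, he₂, -⟩ := exists_transport hgR.le hgR hgi
  have hval : ∀ x ∈ R', autFn (MulAut.congr e₂ (MulAut.congr e ν)) (g x) =
      g (autFn (MulAut.congr e ν) x) := fun x hx => by
    lift x to R' using hx
    rw [← he₂ x, autFn_coe, show (MulAut.congr e₂ (MulAut.congr e ν)) (e₂ x) = e₂ ((MulAut.congr e ν) x) by
      simp [MulAut.congr], he₂, autFn_coe]
  refine Subgroup.subset_closure ⟨g ∘ cj lg.emb l, Q, MulAut.congr e₂ (MulAut.congr e ν), hQn,
    hlf.comp hgR fun x hx => mem_img_of_mem hx, by rw [hlf.img_comp, ← hR', hgi],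
    Or.inr ⟨by rwa [MulEquiv.orderOf_eq], CompatLift.transport st hR'W hg hgi hgC hlift hval⟩, fun x hx => ?_⟩
  lift x to R using hx
  show g (cj lg.emb l (autFn ν x)) = autFn _ (g (cj lg.emb l x))
  rw [← he x, hval _ (e x).2, autFn_coe (MulAut.congr e ν),
    show (MulAut.congr e ν) (e x) = e (ν x) by simp [MulAut.congr], he, autFn_coe]

end CfsgLib.Fsys.Meet
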