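import Cfsg.Agent.Lib.FusionSystem.CoreDisplacement
import Cfsg.Agent.Lib.FusionSystem.CentralLiftGen
import Cfsg.Agent.Lib.FusionSystem.CharacterKernel

/-! The generators of the intersection of two weakly normal subsystems. -/

set_option autoImplicit false

namespace CfsgLib.Fsys.Meet

open Cfsg Cfsg.FusionSystem CfsgLib.Fsys.WNR
open Cfsg.FusionSystem (centralizerIn normalizerIn)

universe u

variable {Ω : Type u} [Group Ω] {S T T₁ : Subgroup Ω} {F : FusionSystem S} {D : FusionSystem T}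
  {D₁ : FusionSystem T₁} {Y Q : Subgroup Ω}

/-- Two weakly normal subsystems of a system over a finite `p`-group. -/
structure Setup (F : FusionSystem S) (D : FusionSystem T) (D₁ : FusionSystem T₁) (p : ℕ) : Prop where
  isp : IsPGroup p S
  wn : D.IsWeaklyNormalIn F p
  wn₁ : D₁.IsWeaklyNormalIn F p

theorem Setup.sat {p : ℕ} (st : Setup F D D₁ p) : F.IsSaturated p := st.wn.2.1

theorem Setup.sc {p : ℕ} (st : Setup F D D₁ p) : F.StronglyClosed (T ⊓ T₁) :=
  stronglyClosed_iff_fn.2 ⟨inf_le_left.trans st.wn.2.2.2.1.1, fun _ _ hf _ hx h =>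
    ⟨sc_apply st.wn.2.2.2.1 hf hx h.1, sc_apply st.wn₁.2.2.2.1 hf hx h.2⟩⟩

/-- Every conjugate contains its centralizer in `W`. -/
def WCentric (F : FusionSystem S) (W Y : Subgroup Ω) : Prop :=
  Y ≤ W ∧ ∀ Z : Subgroup Ω, F.IsConj Y Z → centralizerIn W Z ≤ Z

theorem WCentric.conj {W : Subgroup Ω} (hY : WCentric F W Y) (hW : F.StronglyClosed W) (h : F.IsConj Y Q) :
    WCentric F W Q := by
  obtain ⟨f, hf, hi⟩ := isConj_iff.1 h
  exact ⟨hi ▸ img_le fun x hx => sc_apply hW hf hx (hY.1 hx), fun Z hZ => hY.2 Z (isConj_trans h hZ)⟩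

theorem WCentric.mono {W : Subgroup Ω} (hY : WCentric F W Y) (h : Y ≤ Q) (hQ : Q ≤ W) : WCentric F W Q := by
  refine ⟨hQ, fun Z hZ c hc => ?_⟩
  obtain ⟨f, hf, hi⟩ := isConj_iff.1 hZ
  have hle : img f Y ≤ Z := hi ▸ img_mono h
  exact hle (hY.2 _ (isConj_of_fn (hf.mono h))
    (mem_centralizerIn.2 ⟨(mem_centralizerIn.1 hc).1, fun y hy => (mem_centralizerIn.1 hc).2 y (hle hy)⟩))

/-- `Y` and `Y C_S(Y)` are both fully normalized. -/
def Nice (F : FusionSystem S) (Y : Subgroup Ω) : Prop :=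
  F.IsFullyNormalized Y ∧ F.IsFullyNormalized (Y ⊔ centralizerIn S Y)

theorem normalizer_le_sup {s : Ω} [Finite S] (hY : Y ≤ S) (hs : s ∈ normalizerIn S Y) :
    s ∈ normalizerIn S (Y ⊔ centralizerIn S Y) := by
  have hV : Y ⊔ centralizerIn S Y ≤ S := sup_le hY centralizerIn_le
  haveI := finite_of_le_base hV
  refine mem_normalizerIn.2 ⟨hs.1, mem_normalizer_of_map_le fun x hx => ?_⟩
  have hf : Fn (innerFusionSystem S) (Y ⊔ centralizerIn S Y) (fun x => s * x * s⁻¹) := fn_conj hV hs.1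
  have h := mem_img_of_mem (f := fun x => s * x * s⁻¹) hx
  rw [hf.img_sup] at h
  refine sup_le_sup (img_le fun y hy => (mem_normalizer_iff'.1 hs.2).1 y hy) (img_le fun c hc => ?_) h
  refine mem_centralizerIn.2 ⟨S.mul_mem (S.mul_mem hs.1 (centralizerIn_le hc)) (S.inv_mem hs.1), fun y hy => ?_⟩
  have h1 := (mem_centralizerIn.1 hc).2 _ ((mem_normalizer_iff'.1 hs.2).2 y hy)
  calc y * (s * c * s⁻¹) = s * (s⁻¹ * y * s * c) * s⁻¹ := by group
    _ = s * (c * (s⁻¹ * y * s)) * s⁻¹ := by rw [h1]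
    _ = _ := by group

/-- A lift to `Y C_S(Y)` moving `C_S(Y)` within `T ⊓ T₁` and restricting into both subsystems. -/
def CompatLift (F : FusionSystem S) (D : FusionSystem T) (D₁ : FusionSystem T₁) (Y : Subgroup Ω)
    (a : MulAut Y) : Prop :=
  ∃ h : Ω → Ω, Fn F (Y ⊔ centralizerIn S Y) h ∧ (∀ y ∈ Y, h y = autFn a y) ∧
    (∀ c ∈ centralizerIn S Y, c⁻¹ * h c ∈ T ⊓ T₁) ∧
    Fn D (Y ⊔ centralizerIn T Y) h ∧ Fn D₁ (Y ⊔ centralizerIn T₁ Y) h

/-- The generators at a nice subgroup. -/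
def gens (p : ℕ) (F : FusionSystem S) (D : FusionSystem T) (D₁ : FusionSystem T₁) (Y : Subgroup Ω) :
    Set (MulAut Y) :=
  {a | a ∈ autInducedBy (T ⊓ T₁) Y ∨ (Nat.Coprime (orderOf a) p ∧ CompatLift F D D₁ Y a)}

/-- The transported generators. -/
def kGen (p : ℕ) (F : FusionSystem S) (D : FusionSystem T) (D₁ : FusionSystem T₁) (Y : Subgroup Ω) :
    Subgroup (MulAut Y) :=
  Subgroup.closure {β | ∃ (f : Ω → Ω) (Q : Subgroup Ω) (a : MulAut Q), Nice F Q ∧ Fn F Y f ∧ img f Y = Q ∧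
    a ∈ gens p F D D₁ Q ∧ ∀ y ∈ Y, f (autFn β y) = autFn a (f y)}

variable {p : ℕ}

/-- The generators are transported by maps of `F`. -/
theorem kGen_congr {g : Ω → Ω} (hg : Fn F Y g) (hi : img g Y = Q) (e : Y ≃* Q)
    (he : ∀ y : Y, ((e y : Q) : Ω) = g y) {β : MulAut Y} (hβ : β ∈ kGen p F D D₁ Y) :
    MulAut.congr e β ∈ kGen p F D D₁ Q := by
  induction hβ using Subgroup.closure_induction with
  | mem b hb =>
    obtain ⟨f, R, a, hR, hf, hfi, ha, hfa⟩ := hb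
    obtain ⟨g', hg', hg'g, hg'i⟩ := hg.exists_inv
    rw [hi] at hg' hg'i
    have hm : ∀ x ∈ Q, g' x ∈ Y := fun x hx => hg'i.le (mem_img_of_mem hx)
    refine Subgroup.subset_closure ⟨f ∘ g', R, a, hR, hg'.comp hf hm, by rw [hg'.img_comp, hg'i, hfi], ha,
      fun x hx => ?_⟩
    obtain ⟨y, hy⟩ := e.surjective ⟨x, hx⟩
    obtain rfl : x = g y := by rw [← he y, hy]
    show f (g' (autFn (MulAut.congr e b) (g y))) = autFn a (f (g' (g y)))
    rw [hg'g y y.2, ← hfa y y.2, ← he y, autFn_coe, autFn_coe,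
      show (MulAut.congr e b) (e y) = e (b y) by simp [MulAut.congr], he, hg'g _ (b y).2]
  | one => rw [map_one]; exact one_mem _
  | mul a b _ _ ha hb => rw [map_mul]; exact mul_mem ha hb
  | inv a _ ha => rw [map_inv]; exact inv_mem ha

/-- The generators are transported by maps of `F`, function form. -/
theorem kGen_transport [Finite S] {g : Ω → Ω} (hg : Fn F Y g) (hi : img g Y = Q) {β : MulAut Y} {β' : MulAut Q}
    (hβ : β ∈ kGen p F D D₁ Y) (h : ∀ y ∈ Y, autFn β' (g y) = g (autFn β y)) :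
    β' ∈ kGen p F D D₁ Q := by
  obtain ⟨e, he, -⟩ := exists_transport hg.le hg hi
  suffices e' : β' = MulAut.congr e β from e' ▸ kGen_congr hg hi e he hβ
  refine MulEquiv.ext fun x => Subtype.ext ?_
  obtain ⟨y, rfl⟩ := e.surjective x
  rw [show (MulAut.congr e β) (e y) = e (β y) by simp [MulAut.congr], he, ← autFn_coe β' (e y), he, h y y.2,
    autFn_coe]

theorem kGen_conj [Finite S] (hY : Y ≤ S) {b β : MulAut Y} (hb : b ∈ F.autGroup Y) (hβ : β ∈ kGen p F D D₁ Y) :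
    b * β * b⁻¹ ∈ kGen p F D D₁ Y := by
  refine kGen_transport ((mem_autGroup_iff_fn hY).1 hb) (img_autFn b) hβ fun y hy => ?_
  rw [autFn_mul _ _ (autFn_mem b hy), autFn_inv_apply b hy, autFn_mul _ _ hy]

theorem gens_mem_kGen {a : MulAut Q} (hQ : Nice F Q) (ha : a ∈ gens p F D D₁ Q) : a ∈ kGen p F D D₁ Q :=
  Subgroup.subset_closure ⟨id, Q, a, hQ, fn_id hQ.1.1, img_id Q, ha, fun _ _ => rfl⟩

section

variable [Finite S] [Fact p.Prime]

theorem exists_nice (hS : IsPGroup p S) (hF : F.IsSaturated p) (hY : Y ≤ S) :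
    ∃ Q, F.IsConj Y Q ∧ Nice F Q := by
  obtain ⟨Q₀, hYQ, hQ₀⟩ := exists_fullyNormalized (F := F) hY
  have hV₀ : Q₀ ⊔ centralizerIn S Q₀ ≤ S := sup_le hQ₀.1 centralizerIn_le
  obtain ⟨V, hVV, hV⟩ := exists_fullyNormalized (F := F) hV₀
  obtain ⟨g, hg, hgn, hgi⟩ := exists_normalizer_map hS (fullyNormalized_good hS hF hV).1
    (fullyNormalized_receptive hS hF hV) hVV
  have hle : normalizerIn S Q₀ ≤ normalizerIn S (Q₀ ⊔ centralizerIn S Q₀) := fun s hs =>
    normalizer_le_sup hQ₀.1 hs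
  have hgV := hg.mono (le_normalizerIn hV₀)
  have hgQ := hgV.mono le_sup_left
  have hcj : F.IsConj Q₀ (img g Q₀) := isConj_of_fn hgQ
  have hQn : F.IsFullyNormalized (img g Q₀) := ⟨hgQ.img_le_base, fun R hR =>
    (hQ₀.2 R (isConj_trans hcj hR)).trans (card_le_of_map_le normalizerIn_le (hg.mono hle) fun n hn =>
      hg.map_normalizer ((le_normalizerIn hV₀).trans' le_sup_left) rfl (hle hn) hn.2)⟩
  have hC : img g (centralizerIn S Q₀) = centralizerIn S (img g Q₀) :=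
    img_eq_of_card_le centralizerIn_le (hgV.mono le_sup_right)
      (fun c hc => hgV.map_centralizer le_sup_left rfl (Subgroup.mem_sup_right hc) hc)
      ((fullyNormalized_good hS hF hQ₀).2.2 _ hcj)
  refine ⟨_, isConj_trans hYQ hcj, hQn, ?_⟩
  rwa [← hC, ← hgV.img_sup, hgi]

theorem autInducedBy_le_kGen (st : Setup F D D₁ p) (hY : Y ≤ T ⊓ T₁) :
    autInducedBy (T ⊓ T₁) Y ≤ kGen p F D D₁ Y := by
  intro β hβ
  have hW := st.sc
  have hYS := hY.trans hW.1
  obtain ⟨Q, hYQ, hQ⟩ := exists_nice st.isp st.sat hYS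
  obtain ⟨g, hg, -, hgi⟩ := exists_normalizer_map st.isp (fullyNormalized_good st.isp st.sat hQ.1).1
    (fullyNormalized_receptive st.isp st.sat hQ.1) hYQ
  obtain ⟨w, hw, hwb⟩ := mem_autInducedBy.1 hβ
  have hwN : w ∈ normalizerIn S Y := ⟨hW.1 hw, mem_normalizer_of_autEq hwb⟩
  have hgw := hg.map_normalizer (le_normalizerIn hYS) hgi hwN hwN.2
  refine Subgroup.subset_closure ⟨g, Q, conjAut Q hgw.2, hQ, hg.mono (le_normalizerIn hYS), hgi,
    Or.inl (conjAut_mem_autInducedBy _ (sc_apply hW hg hwN hw)), fun y hy => ?_⟩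
  rw [autFn_coe β ⟨y, hy⟩, hwb, autFn_coe _ ⟨g y, hgi.le (mem_img_of_mem hy)⟩, conjAut_coe]
  exact hg.map_conj hwN (le_normalizerIn hYS hy)

omit [Fact p.Prime] [Finite S] in
theorem centralizerIn_eq_inf {U X : Subgroup Ω} (hU : U ≤ S) :
    centralizerIn U X = centralizerIn S X ⊓ U :=
  le_antisymm (fun _ h => ⟨⟨hU h.1, h.2⟩, h.1⟩) fun _ h => ⟨h.2, h.1.2⟩

theorem img_centralizerIn_sc {U : Subgroup Ω} (hU : F.StronglyClosed U) {g : Ω → Ω}
    (hg : Fn F (Y ⊔ centralizerIn S Y) g) (hC : img g (centralizerIn S Y) = centralizerIn S (img g Y)) :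
    img g (centralizerIn U Y) = centralizerIn U (img g Y) := by
  rw [centralizerIn_eq_inf hU.1, centralizerIn_eq_inf hU.1, ← img_inf_sc hU (hg.mono le_sup_right), hC]

omit [Finite S] [Fact p.Prime] in
theorem sub_le_sup {U : Subgroup Ω} (hU : U ≤ S) :
    Y ⊔ centralizerIn U Y ≤ Y ⊔ centralizerIn S Y :=
  sup_le_sup le_rfl fun _ h => ⟨hU h.1, h.2⟩

/-- Transport of the restriction to an invariant subsystem. -/
theorem transport_part {U : Subgroup Ω} {E : FusionSystem U} (hE : E.IsInvariantIn F) (hY : Y ≤ U)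
    {g h h' : Ω → Ω} (hg : Fn F (Y ⊔ centralizerIn S Y) g)
    (hC : img g (centralizerIn S Y) = centralizerIn S (img g Y)) (hh : Fn E (Y ⊔ centralizerIn U Y) h)
    (hm : img h (Y ⊔ centralizerIn U Y) = Y ⊔ centralizerIn U Y)
    (hh' : ∀ x ∈ Y ⊔ centralizerIn U Y, h' (g x) = g (h x)) :
    Fn E (img g Y ⊔ centralizerIn U (img g Y)) h' := by
  have hT := hE.2.1
  have hle : Y ⊔ centralizerIn U Y ≤ U := sup_le hY inf_le_left
  have hgD := hg.mono (sub_le_sup hT.1)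
  obtain ⟨χ, hχ, hχe⟩ := Invariant.strong hE hle hgD le_rfl hh fun x hx => hm.le (mem_img_of_mem hx)
  rw [hgD.img_sup, img_centralizerIn_sc hT hg hC] at hχ
  refine hχ.congr fun x hx => ?_
  rw [← img_centralizerIn_sc hT hg hC, ← hgD.img_sup] at hx
  obtain ⟨y, hy, rfl⟩ := hgD.mem_img.1 hx
  rw [hχe y hy, hh' y hy]

theorem lift_img {U : Subgroup Ω} (hU : F.StronglyClosed U) {h : Ω → Ω}
    (hh : Fn F (Y ⊔ centralizerIn S Y) h) (hi : img h Y = Y) :
    img h (Y ⊔ centralizerIn U Y) = Y ⊔ centralizerIn U Y := by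
  have hm := sub_le_sup (Y := Y) hU.1
  rw [(hh.mono hm).img_sup, hi]
  congr 1
  exact (hh.mono (le_sup_right.trans hm)).img_eq_self fun c hc =>
    ⟨sc_apply hU hh (hm (Subgroup.mem_sup_right hc)) hc.1,
      (hh.map_centralizer le_sup_left hi (hm (Subgroup.mem_sup_right hc)) ⟨hU.1 hc.1, hc.2⟩).2⟩

omit [Fact p.Prime] in
theorem CompatLift.img_eq {a : MulAut Y} {h : Ω → Ω} (hh : Fn F (Y ⊔ centralizerIn S Y) h)
    (ha : ∀ y ∈ Y, h y = autFn a y) :
    img h Y = Y ∧ img h (centralizerIn S Y) = centralizerIn S Y ∧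
      img h (Y ⊔ centralizerIn S Y) = Y ⊔ centralizerIn S Y := by
  have hY : img h Y = Y := (img_congr ha).trans (img_autFn a)
  have hC : img h (centralizerIn S Y) = centralizerIn S Y := (hh.mono le_sup_right).img_eq_self fun c hc =>
    hh.map_centralizer le_sup_left hY (Subgroup.mem_sup_right hc) hc
  exact ⟨hY, hC, by rw [hh.img_sup, hY, hC]⟩

/-- Compatible lifts are transported along isomorphisms of `Y C_S(Y)`. -/
theorem CompatLift.transport (st : Setup F D D₁ p) (hY : Y ≤ T ⊓ T₁) {g : Ω → Ω}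
    (hg : Fn F (Y ⊔ centralizerIn S Y) g) (hi : img g Y = Q)
    (hC : img g (centralizerIn S Y) = centralizerIn S Q) {a : MulAut Y} {a' : MulAut Q}
    (ha : CompatLift F D D₁ Y a) (h : ∀ y ∈ Y, autFn a' (g y) = g (autFn a y)) :
    CompatLift F D D₁ Q a' := by
  obtain ⟨k, hk, hka, hkd, hkD, hkD₁⟩ := ha
  subst hi
  obtain ⟨hkY, -, hkV⟩ := CompatLift.img_eq hk hka
  obtain ⟨g', hg', hg'g, hg'i⟩ := hg.exists_inv
  rw [hg.img_sup, hC] at hg' hg'i
  have hg'm : ∀ x ∈ img g Y ⊔ centralizerIn S (img g Y), g' x ∈ Y ⊔ centralizerIn S Y := fun x hx =>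
    hg'i.le (mem_img_of_mem hx)
  have hc := (hg'.comp hk hg'm).comp hg fun x hx => hkV.le (mem_img_of_mem (hg'm x hx))
  have hval : ∀ x ∈ Y ⊔ centralizerIn S Y, (g ∘ (k ∘ g')) (g x) = g (k x) := fun x hx => by
    show g (k (g' (g x))) = _
    rw [hg'g x hx]
  refine ⟨g ∘ (k ∘ g'), hc, fun y hy => ?_, fun c hcc => ?_, ?_, ?_⟩
  · obtain ⟨x, hx, rfl⟩ := (hg.mono le_sup_left).mem_img.1 hy
    rw [hval x (Subgroup.mem_sup_left hx), hka x hx, h x hx]
  · obtain ⟨x, hx, rfl⟩ := (hg.mono le_sup_right).mem_img.1 (hC.ge hcc)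
    have hxV : x ∈ Y ⊔ centralizerIn S Y := Subgroup.mem_sup_right hx
    have hkx : k x ∈ Y ⊔ centralizerIn S Y := hkV.le (mem_img_of_mem hxV)
    rw [hval x hxV, ← hg.map_inv hxV, ← hg.map_mul (Subgroup.inv_mem _ hxV) hkx]
    exact sc_apply st.sc hg (Subgroup.mul_mem _ (Subgroup.inv_mem _ hxV) hkx) (hkd x hx)
  · exact transport_part st.wn.2.2 (hY.trans inf_le_left) hg hC hkD
      (lift_img st.wn.2.2.2.1 hk hkY)
      fun x hx => hval x (sub_le_sup st.wn.2.2.2.1.1 hx)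
  · exact transport_part st.wn₁.2.2 (hY.trans inf_le_right) hg hC hkD₁
      (lift_img st.wn₁.2.2.2.1 hk hkY)
      fun x hx => hval x (sub_le_sup st.wn₁.2.2.2.1.1 hx)

/-- A map between fully centralized subgroups extends to an isomorphism of the products with centralizers. -/
theorem exists_ext_sup (hS : IsPGroup p S) (hF : F.IsSaturated p) (hY : F.IsFullyCentralized Y)
    (hQ : F.IsFullyCentralized Q) {f : Ω → Ω} (hf : Fn F Y f) (hi : img f Y = Q) :
    ∃ g, Fn F (Y ⊔ centralizerIn S Y) g ∧ img g Y = Q ∧ img g (centralizerIn S Y) = centralizerIn S Q ∧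
      ∀ y ∈ Y, g y = f y := by
  obtain ⟨N, g, hg, hYN, hN, hge⟩ := receptive_extend (fullyCentralized_receptive hS hF hQ) hf hi
  have hV : Y ⊔ centralizerIn S Y ≤ N := sup_le hYN fun c hc => (hN c).2 (inExt_of_commute hc)
  have hgY : img g Y = Q := (img_congr hge).trans hi
  refine ⟨g, hg.mono hV, hgY, img_eq_of_card_le centralizerIn_le (hg.mono (le_sup_right.trans hV))
    (fun c hc => hg.map_centralizer hYN hgY (hV (Subgroup.mem_sup_right hc)) hc)
    (hY.2 Q (isConj_iff.2 ⟨f, hf, hi⟩)), hge⟩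

theorem compatLift_conj (st : Setup F D D₁ p) (hY : Y ≤ T ⊓ T₁) {w : Ω} (hw : w ∈ T ⊓ T₁)
    (hn : w ∈ Subgroup.normalizer (Y : Set Ω)) : CompatLift F D D₁ Y (conjAut Y hn) := by
  have hT := st.wn.2.2.2.1
  have hT₁ := st.wn₁.2.2.2.1
  refine ⟨_, fn_conj (sup_le (hY.trans st.sc.1) centralizerIn_le) (st.sc.1 hw),
    fun y hy => ((autFn_coe _ ⟨y, hy⟩).trans (conjAut_coe hn ⟨y, hy⟩)).symm, fun c hc => ?_,
    fn_conj (sup_le (hY.trans inf_le_left) inf_le_left) hw.1,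
    fn_conj (sup_le (hY.trans inf_le_right) inf_le_left) hw.2⟩
  rw [show c⁻¹ * (w * c * w⁻¹) = c⁻¹ * w * c⁻¹⁻¹ * w⁻¹ by group]
  exact (T ⊓ T₁).mul_mem (sc_conj st.sc (S.inv_mem (centralizerIn_le hc)) hw) ((T ⊓ T₁).inv_mem hw)

/-- The automorphisms with a compatible lift. -/
def liftSub (st : Setup F D D₁ p) (hY : Y ≤ T ⊓ T₁) : Subgroup (MulAut Y) where
  carrier := {a | CompatLift F D D₁ Y a}
  one_mem' := ⟨id, fn_id (sup_le (hY.trans st.sc.1) centralizerIn_le), fun _ hy => (autFn_id hy).symm,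
    fun c _ => by rw [id_eq, inv_mul_cancel]; exact Subgroup.one_mem _,
    fn_id (sup_le (hY.trans inf_le_left) inf_le_left), fn_id (sup_le (hY.trans inf_le_right) inf_le_left)⟩
  mul_mem' := by
    rintro a b ⟨h, hh, hha, hhd, hhD, hhD₁⟩ ⟨k, hk, hkb, hkd, hkD, hkD₁⟩
    obtain ⟨hkY, -, hkV⟩ := CompatLift.img_eq hk hkb
    refine ⟨h ∘ k, hk.comp hh fun x hx => hkV.le (mem_img_of_mem hx), fun y hy => ?_, fun c hc => ?_,
      hkD.comp hhD fun x hx => (lift_img st.wn.2.2.2.1 hk hkY).le (mem_img_of_mem hx),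
      hkD₁.comp hhD₁ fun x hx =>
        (lift_img st.wn₁.2.2.2.1 hk hkY).le (mem_img_of_mem hx)⟩
    · show h (k y) = _
      rw [hkb y hy, hha _ (autFn_mem b hy), autFn_mul a b hy]
    · show c⁻¹ * h (k c) ∈ T ⊓ T₁
      have hcV : c ∈ Y ⊔ centralizerIn S Y := Subgroup.mem_sup_right hc
      have hd : c⁻¹ * k c ∈ Y ⊔ centralizerIn S Y :=
        Subgroup.mul_mem _ (Subgroup.inv_mem _ hcV) (hkV.le (mem_img_of_mem hcV))
      rw [← mul_inv_cancel_left c (k c), hh.map_mul hcV hd, ← mul_assoc]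
      exact Subgroup.mul_mem _ (hhd c hc) (sc_apply st.sc hh hd (hkd c hc))
  inv_mem' := by
    rintro a ⟨h, hh, hha, hhd, hhD, hhD₁⟩
    obtain ⟨hhY, hhC, hhV⟩ := CompatLift.img_eq hh hha
    obtain ⟨k, hk, hkh, hki⟩ := hh.exists_inv
    rw [hhV] at hk hki
    have hinv : ∀ {U : Subgroup Ω} {E : FusionSystem U}, F.StronglyClosed U →
        Fn E (Y ⊔ centralizerIn U Y) h → Fn E (Y ⊔ centralizerIn U Y) k := fun {U E} hU hE => by
      obtain ⟨k', hk', hk'h, -⟩ := hE.exists_inv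
      rw [lift_img hU hh hhY] at hk'
      refine hk'.congr fun x hx => ?_
      rw [← lift_img hU hh hhY] at hx
      obtain ⟨y, hy, rfl⟩ := hE.mem_img.1 hx
      rw [hk'h y hy, hkh y (sub_le_sup hU.1 hy)]
    refine ⟨k, hk, fun y hy => ?_, fun c hc => ?_, hinv st.wn.2.2.2.1 hhD,
      hinv st.wn₁.2.2.2.1 hhD₁⟩
    · obtain ⟨x, hx, rfl⟩ := (hh.mono le_sup_left).mem_img.1 (hhY.ge hy)
      rw [hkh x (Subgroup.mem_sup_left hx), hha x hx, autFn_inv_apply a hx]
    · obtain ⟨x, hx, rfl⟩ := (hh.mono le_sup_right).mem_img.1 (hhC.ge hc)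
      rw [hkh x (Subgroup.mem_sup_right hx)]
      have h1 := Subgroup.inv_mem _ (hhd x hx)
      rwa [mul_inv_rev, inv_inv] at h1

theorem gens_le_liftSub (st : Setup F D D₁ p) (hY : Y ≤ T ⊓ T₁) {a : MulAut Y}
    (ha : a ∈ gens p F D D₁ Y) : a ∈ liftSub st hY := by
  rcases ha with ha | ⟨-, ha⟩
  · obtain ⟨w, hw, hwa⟩ := mem_autInducedBy.1 ha
    have hn := mem_normalizer_of_autEq hwa
    obtain rfl : a = conjAut Y hn := MulEquiv.ext fun y => Subtype.ext ((hwa y).trans (conjAut_coe hn y).symm)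
    exact compatLift_conj st hY hw hn
  · exact ha

/-- At a fully centralized subgroup every element has a compatible lift. -/
theorem kGen_le_liftSub (st : Setup F D D₁ p) (hY : Y ≤ T ⊓ T₁) (hfc : F.IsFullyCentralized Y) :
    kGen p F D D₁ Y ≤ liftSub st hY := by
  refine (Subgroup.closure_le _).2 ?_
  rintro β ⟨f, Q, a, hQ, hf, hfi, ha, hfa⟩
  obtain ⟨g, hg, hgi, hgC, hge⟩ :=
    exists_ext_sup st.isp st.sat hfc (fullyNormalized_good st.isp st.sat hQ.1).2 hf hfi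
  have hQW : Q ≤ T ⊓ T₁ := hfi ▸ img_le fun x hx => sc_apply st.sc hf hx (hY hx)
  obtain ⟨g', hg', hg'g, hg'i⟩ := hg.exists_inv
  rw [hg.img_sup, hgi, hgC] at hg' hg'i
  have hi' : img g' Q = Y := by
    rw [← hgi, ← (hg.mono le_sup_left).img_comp]
    exact (img_congr fun x hx => hg'g x (Subgroup.mem_sup_left hx)).trans (img_id Y)
  have hC' : img g' (centralizerIn S Q) = centralizerIn S Y := by
    rw [← hgC, ← (hg.mono le_sup_right).img_comp]
    exact (img_congr fun x hx => hg'g x (Subgroup.mem_sup_right hx)).trans (img_id _)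
  refine CompatLift.transport st hQW hg' hi' hC' (gens_le_liftSub st hQW ha) fun x hx => ?_
  obtain ⟨y, hy, rfl⟩ := hf.mem_img.1 (hfi.ge hx)
  rw [← hfa y hy, ← hge y hy, hg'g y (Subgroup.mem_sup_left hy), ← hge _ (autFn_mem β hy),
    hg'g _ (Subgroup.mem_sup_left (autFn_mem β hy))]

/-- The generated automorphisms lie in both subsystems. -/
theorem kGen_le (st : Setup F D D₁ p) (hY : Y ≤ T ⊓ T₁) :
    kGen p F D D₁ Y ≤ D.autGroup Y ⊓ D₁.autGroup Y := by
  refine (Subgroup.closure_le _).2 ?_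
  rintro β ⟨f, Q, a, hQ, hf, hfi, ha, hfa⟩
  have hQW : Q ≤ T ⊓ T₁ := hfi ▸ img_le fun x hx => sc_apply st.sc hf hx (hY hx)
  obtain ⟨h, -, hha, -, hhD, hhD₁⟩ := gens_le_liftSub st hQW ha
  obtain ⟨e, he, -⟩ := exists_transport hf.le hf hfi
  obtain ⟨g, hg, hgf, hgi⟩ := hf.exists_inv
  rw [hfi] at hg hgi
  have key : ∀ {U : Subgroup Ω} {E : FusionSystem U}, E.IsInvariantIn F → T ⊓ T₁ ≤ U →
      Fn E Q (autFn a) → β ∈ E.autGroup Y := fun {U E} hE hU hEa => by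
    have h1 := congr_mem hE (hQW.trans hU) hg hgi e.symm (fun x => by
      obtain ⟨y, rfl⟩ := e.surjective x
      rw [MulEquiv.symm_apply_apply, he, hgf y y.2]) ((mem_autGroup_iff_fn (hQW.trans hU)).2 hEa)
    suffices e' : β = MulAut.congr e.symm a from e' ▸ h1
    refine MulEquiv.ext fun y => e.injective (Subtype.ext ?_)
    rw [show (MulAut.congr e.symm a) y = e.symm (a (e y)) by simp [MulAut.congr], MulEquiv.apply_symm_apply,
      he, ← autFn_coe β y, hfa y y.2, ← he, autFn_coe]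
  exact ⟨key st.wn.2.2 inf_le_left ((hhD.mono le_sup_left).congr hha),
    key st.wn₁.2.2 inf_le_right ((hhD₁.mono le_sup_left).congr hha)⟩

theorem kGen_le_autGroup (st : Setup F D D₁ p) (hY : Y ≤ T ⊓ T₁) : kGen p F D D₁ Y ≤ F.autGroup Y :=
  fun _ hβ => autGroup_mono' st.wn.2.2.1 Y (kGen_le st hY hβ).1

end

/-- The least system over `T ⊓ T₁` containing the generators. -/
def meetSys [Finite S] [Fact p.Prime] (st : Setup F D D₁ p) : FusionSystem (T ⊓ T₁) :=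
  predSystem (Lift.restrictTo F st.sc)
    (fun P f => ∀ M : FusionSystem (T ⊓ T₁),
      (∀ Y, WCentric F (T ⊓ T₁) Y → kGen p F D D₁ Y ≤ M.autGroup Y) → Fn M P f)
    (fun _ _ _ he _ h M hM => (h M hM).congr he) (fun _ hP _ hs _ _ => fn_conj hP hs)
    (fun _ _ _ _ _ _ hm h h' M hM => (h M hM).comp (h' M hM) hm)
    (fun P f g hf _ hgf h M hM => by
      obtain ⟨k, hk, hkf, -⟩ := (h M hM).exists_inv
      exact hk.congr fun y hy => by
        obtain ⟨x, hx, rfl⟩ := hf.mem_img.1 hy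
        rw [hkf x hx, hgf x hx])

variable [Finite S] [Fact p.Prime]

theorem kGen_le_meetSys (st : Setup F D D₁ p) (hY : WCentric F (T ⊓ T₁) Y) :
    kGen p F D D₁ Y ≤ (meetSys st).autGroup Y := fun β hβ =>
  (mem_autGroup_iff_fn hY.1).2 (fn_predSystem.2
    ⟨Lift.fn_restrictTo.2 ⟨(mem_autGroup_iff_fn (hY.1.trans st.sc.1)).1 (kGen_le_autGroup st hY.1 hβ), hY.1⟩,
      fun _ hM => (mem_autGroup_iff_fn hY.1).1 (hM Y hY hβ)⟩)

theorem meetSys_le (st : Setup F D D₁ p) {M : FusionSystem (T ⊓ T₁)}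
    (hM : ∀ Y, WCentric F (T ⊓ T₁) Y → kGen p F D D₁ Y ≤ M.autGroup Y) {P : Subgroup Ω} {f : Ω → Ω}
    (hf : Fn (meetSys st) P f) : Fn M P f :=
  (fn_predSystem.1 hf).2 M hM

theorem meetSys_sub (st : Setup F D D₁ p) : (meetSys st).IsSubsystemOf F := fun _ _ h =>
  (h.1 : _ ∈ (Lift.restrictTo F st.sc).Hom _).1

/-- The system lies in a system containing the generators on larger base. -/
theorem meetSys_sub_of {U : Subgroup Ω} (st : Setup F D D₁ p) {E : FusionSystem U} (hU : T ⊓ T₁ ≤ U)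
    (h : ∀ Y, Y ≤ T ⊓ T₁ → kGen p F D D₁ Y ≤ E.autGroup Y) :
    (meetSys st).IsSubsystemOf E := by
  let M : FusionSystem (T ⊓ T₁) := predSystem (Lift.restrictTo F st.sc) (fun P f => Fn E P f)
    (fun _ _ _ he _ h => h.congr he) (fun _ hP _ hs => fn_conj (hP.trans hU) (hU hs))
    (fun _ _ _ _ _ _ hm h h' => h.comp h' hm)
    (fun P f g hf _ hgf h => by
      obtain ⟨k, hk, hkf, -⟩ := h.exists_inv
      exact hk.congr fun y hy => by
        obtain ⟨x, hx, rfl⟩ := hf.mem_img.1 hy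
        rw [hkf x hx, hgf x hx])
  intro P φ hφ
  have h1 := meetSys_le st (M := M) (fun Y hY β hβ => (mem_autGroup_iff_fn hY.1).2 (fn_predSystem.2
    ⟨Lift.fn_restrictTo.2 ⟨(mem_autGroup_iff_fn (hY.1.trans st.sc.1)).1 (kGen_le_autGroup st hY.1 hβ), hY.1⟩,
      (mem_autGroup_iff_fn (hY.1.trans hU)).1 (h Y hY.1 hβ)⟩)) (fn_ofHom hφ)
  exact mem_hom_iff.2 (fn_predSystem.1 h1).2

theorem meetSys_sub_left (st : Setup F D D₁ p) : (meetSys st).IsSubsystemOf D :=
  meetSys_sub_of st inf_le_left fun _ hY _ h => (kGen_le st hY h).1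

theorem meetSys_sub_right (st : Setup F D D₁ p) : (meetSys st).IsSubsystemOf D₁ :=
  meetSys_sub_of st inf_le_right fun _ hY _ h => (kGen_le st hY h).2

/-- The system is invariant under the automorphisms of its base. -/
theorem meetSys_transform (st : Setup F D D₁ p) {α : MulAut ↥(T ⊓ T₁)} (hα : α ∈ F.autGroup (T ⊓ T₁))
    {P : Subgroup Ω} {g : Ω → Ω} (hg : Fn (meetSys st) P g) :
    ∃ χ : Ω → Ω, Fn (meetSys st) (img (autFn α) P) χ ∧ ∀ x ∈ P, χ (autFn α x) = autFn α (g x) := by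
  have hW := st.sc
  have hαf : Fn F (T ⊓ T₁) (autFn α) := (mem_autGroup_iff_fn hW.1).1 hα
  let DM : FusionSystem (T ⊓ T₁) := predSystem (meetSys st)
    (fun P g => ∃ χ : Ω → Ω, Fn (meetSys st) (img (autFn α) P) χ ∧ ∀ x ∈ P, χ (autFn α x) = autFn α (g x))
    (fun P f g he _ h => by
      obtain ⟨χ, hχ, hχe⟩ := h
      exact ⟨χ, hχ, fun x hx => by rw [hχe x hx, he x hx]⟩)
    (fun P hP s hs => ⟨fun y => autFn α s * y * (autFn α s)⁻¹,
      fn_conj (img_le fun x hx => autFn_mem α (hP hx)) (autFn_mem α hs),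
      fun x hx => (hαf.map_conj hs (hP hx)).symm⟩)
    (fun P R f g hf' _ hm h h' => by
      obtain ⟨χ, hχ, hχe⟩ := h
      obtain ⟨χ', hχ', hχ'e⟩ := h'
      refine ⟨χ' ∘ χ, hχ.comp hχ' fun y hy => ?_, fun x hx => ?_⟩
      · obtain ⟨x, hx, rfl⟩ := (hαf.mono hf'.le).mem_img.1 hy
        rw [hχe x hx]
        exact mem_img_of_mem (hm x hx)
      · show χ' (χ (autFn α x)) = autFn α (g (f x))
        rw [hχe x hx, hχ'e _ (hm x hx)])
    (fun P f g hf' _ hgf h => by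
      obtain ⟨χ, hχ, hχe⟩ := h
      obtain ⟨χ', hχ', hχ'χ, -⟩ := hχ.exists_inv
      have hi : img χ (img (autFn α) P) = img (autFn α) (img f P) := by
        rw [← (hαf.mono hf'.le).img_comp, ← hf'.img_comp]
        exact img_congr fun x hx => hχe x hx
      rw [hi] at hχ'
      refine ⟨χ', hχ', fun y hy => ?_⟩
      obtain ⟨x, hx, rfl⟩ := hf'.mem_img.1 hy
      rw [← hχe x hx, hχ'χ _ (mem_img_of_mem hx), hgf x hx])
  refine (fn_predSystem.1 (meetSys_le st (M := DM) (fun Y hY β hβ => ?_) hg)).2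
  refine (mem_autGroup_iff_fn hY.1).2 (fn_predSystem.2
    ⟨(mem_autGroup_iff_fn hY.1).1 (kGen_le_meetSys st hY hβ), ?_⟩)
  have hf := hαf.mono hY.1
  obtain ⟨e, he, -⟩ := exists_transport hf.le hf rfl
  have hQ := hY.conj hW (isConj_of_fn hf)
  refine ⟨_, (mem_autGroup_iff_fn hQ.1).1 (kGen_le_meetSys st hQ (kGen_congr hf rfl e he hβ)), fun x hx => ?_⟩
  lift x to Y using hx
  rw [← he x, autFn_coe]
  simp [MulAut.congr, he]

end CfsgLib.Fsys.Meet
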