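import Cfsg.Agent.Lib.FusionSystem.Meet.Fusion

/-! The fusion of the local group lies in the meet. -/

set_option autoImplicit false

namespace CfsgLib.Fsys.Meet

open Cfsg Cfsg.FusionSystem CfsgLib.Fsys.WNR
open Cfsg.FusionSystem (centralizerIn normalizerIn)
open CfsgLib.Fusion.Alperin (Chain Tame chain_of_conj)
open scoped Pointwise

universe u

variable {Ω : Type u} [Group Ω] {S T T₁ : Subgroup Ω} {F : FusionSystem S} {D : FusionSystem T}
  {D₁ : FusionSystem T₁} {Y Q P R : Subgroup Ω} {p : ℕ} [Fact p.Prime] [Finite S] {L : Type u} [Group L]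

/-- `l` conjugates the elements of `A` into the image of `N_S(Y)`. -/
def Defd (lg : LocalGroup p F Y L) (l : L) (A : Subgroup Ω) : Prop :=
  ∀ x ∈ A, ∃ (hx : x ∈ normalizerIn S Y) (y : normalizerIn S Y), lg.emb y = l * lg.emb ⟨x, hx⟩ * l⁻¹

theorem Defd.one {lg : LocalGroup p F Y L} {A : Subgroup Ω} (hA : A ≤ normalizerIn S Y) : Defd lg 1 A :=
  fun x hx => ⟨hA hx, ⟨x, hA hx⟩, by simp⟩

theorem cj_one {lg : LocalGroup p F Y L} {x : Ω} (hx : x ∈ normalizerIn S Y) : cj lg.emb 1 x = x :=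
  cj_eq lg.inj hx (y := ⟨x, hx⟩) (by simp)

theorem cj_mem {lg : LocalGroup p F Y L} {l : L} {A : Subgroup Ω} (h : Defd lg l A) {x : Ω} (hx : x ∈ A) :
    cj lg.emb l x ∈ normalizerIn S Y := by
  obtain ⟨hxN, y, hy⟩ := h x hx
  rw [cj_eq lg.inj hxN hy]
  exact y.2

theorem cj_mul {lg : LocalGroup p F Y L} {a b : L} {x : Ω}
    (hb : ∃ (hx : x ∈ normalizerIn S Y) (y : normalizerIn S Y), lg.emb y = b * lg.emb ⟨x, hx⟩ * b⁻¹)
    (ha : ∃ (hy : cj lg.emb b x ∈ normalizerIn S Y) (z : normalizerIn S Y),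
      lg.emb z = a * lg.emb ⟨cj lg.emb b x, hy⟩ * a⁻¹) :
    (∃ (hx : x ∈ normalizerIn S Y) (y : normalizerIn S Y), lg.emb y = a * b * lg.emb ⟨x, hx⟩ * (a * b)⁻¹) ∧
      cj lg.emb (a * b) x = cj lg.emb a (cj lg.emb b x) := by
  obtain ⟨hxN, y, hy⟩ := hb
  obtain ⟨hyN, z, hz⟩ := ha
  have e := cj_eq lg.inj hxN hy
  have he : lg.emb z = a * b * lg.emb ⟨x, hxN⟩ * (a * b)⁻¹ := by
    rw [hz, show (⟨cj lg.emb b x, hyN⟩ : normalizerIn S Y) = y from Subtype.ext e, hy]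
    group
  exact ⟨⟨hxN, z, he⟩, (cj_eq lg.inj hxN he).trans (cj_eq lg.inj hyN hz).symm⟩

/-- Conjugation by a product. -/
theorem fn_cj_mul {lg : LocalGroup p F Y L} {U : Subgroup Ω} {E : FusionSystem U} {a b : L} {A B : Subgroup Ω}
    (hdb : Defd lg b A) (hda : Defd lg a B) (hm : ∀ x ∈ A, cj lg.emb b x ∈ B)
    (hb : Fn E A (cj lg.emb b)) (ha : Fn E B (cj lg.emb a)) :
    Fn E A (cj lg.emb (a * b)) ∧ Defd lg (a * b) A :=
  ⟨(hb.comp ha hm).congr fun x hx => ((cj_mul (hdb x hx) (hda _ (hm x hx))).2).symm,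
    fun x hx => (cj_mul (hdb x hx) (hda _ (hm x hx))).1⟩

theorem fn_cj_conj {lg : LocalGroup p F Y L} {U : Subgroup Ω} {E : FusionSystem U} {A : Subgroup Ω}
    (hAU : A ≤ U) (hA : A ≤ normalizerIn S Y) {s : normalizerIn S Y} (hs : (s : Ω) ∈ U) :
    Fn E A (cj lg.emb (lg.emb s)) :=
  (fn_conj hAU hs).congr fun _ hx => (cj_conj lg (hA hx)).symm

variable (st : Setup F D D₁ p)
include st

/-- The elements of a subgroup normalizing a subgroup of the base have their conjugations in the meet. -/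
theorem mSub_step (lg : LocalGroup p F Y L) (hY : WCentric F (T ⊓ T₁) Y) (hYn : F.IsFullyNormalized Y)
    (hYR : Y ≤ R) (hRW : R ≤ T ⊓ T₁) (hRN : R ≤ normalizerIn S Y) {K : Subgroup (mSub st hY.1 lg)}
    (PK : Sylow p K) (hK : ∀ x ∈ K, Defd lg (x : L) R ∧ ∀ w ∈ R, cj lg.emb (x : L) w ∈ R)
    (hPK : ∀ x ∈ (PK : Subgroup K), ((x : mSub st hY.1 lg) : L) ∈ wRange (T ⊓ T₁) lg) :
    ∀ x ∈ K, Fn (meetSys st) R (cj lg.emb (x : L)) := by
  haveI := lg.fin
  haveI := finite_of_le_base (hRW.trans st.sc.1)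
  let good : Subgroup K :=
    { carrier := {x | Fn (meetSys st) R (cj lg.emb ((x : mSub st hY.1 lg) : L))}
      one_mem' := (fn_id hRW).congr fun x hx => (cj_one (hRN hx)).symm
      mul_mem' := fun {a b} ha hb =>
        (fn_cj_mul (hK _ b.2).1 (hK _ a.2).1 (hK _ b.2).2 hb ha).1
      inv_mem' := fun {a} ha => by
        have hpow : ∀ j : ℕ, Fn (meetSys st) R (cj lg.emb (((a ^ j : K) : mSub st hY.1 lg) : L)) := fun j => by
          induction j with
          | zero =>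
            rw [pow_zero]
            exact (fn_id hRW).congr fun x hx => (cj_one (hRN hx)).symm
          | succ j ih =>
            rw [pow_succ]
            exact (fn_cj_mul (hK _ a.2).1 (hK _ (a ^ j).2).1 (hK _ a.2).2 ha ih).1
        have e : a⁻¹ = a ^ (orderOf a - 1) := inv_eq_of_mul_eq_one_right <| by
          rw [← pow_succ', Nat.sub_add_cancel (orderOf_pos a), pow_orderOf_eq_one]
        show Fn (meetSys st) R (cj lg.emb (((a⁻¹ : K) : mSub st hY.1 lg) : L))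
        rw [e]
        exact hpow _ }
  have hres : pResidual p K ≤ good := (Subgroup.closure_le _).2 fun a ha => by
    obtain ⟨hd, hm⟩ := hK _ a.2
    have hf := lg.realize _ R hRN hd
    obtain ⟨ν, -, hνe⟩ := exists_aut_of_fn hf (hf.img_eq_self hm)
    have hν : ν ∈ kGen p F D D₁ R := kGen_of_coprime st lg hY hYn hYR hRW hRN
      (mSub_le st hY.1 lg (a : mSub st hY.1 lg).2) (by rwa [Subgroup.orderOf_coe, Subgroup.orderOf_coe]) fun x => by
        obtain ⟨hxN, y, hy⟩ := hd x x.2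
        exact ⟨y, hy, by rw [autFn_coe, hνe, cj_eq lg.inj hxN hy]⟩
    have hc : WCentric F (T ⊓ T₁) R := hY.mono hYR hRW
    exact ((mem_autGroup_iff_fn hRW).1 (kGen_le_meetSys st hc hν)).congr fun x hx => by
      rw [autFn_coe ν ⟨x, hx⟩, hνe]
  intro x hx
  obtain ⟨o, ho, u, hu, hou⟩ := CfsgLib.Fusion.Basic.exists_eq_pResidual_mul PK ⟨x, hx⟩
  obtain ⟨w, hw, hwu⟩ := hPK u hu
  have hug : Fn (meetSys st) R (cj lg.emb ((u : mSub st hY.1 lg) : L)) := by
    rw [← hwu]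
    exact fn_cj_conj hRW hRN hw
  have := good.mul_mem (hres ho) (show u ∈ good from hug)
  rw [← hou] at this
  exact this

theorem mSub_fusion (lg : LocalGroup p F Y L) (hY : WCentric F (T ⊓ T₁) Y) (hYn : F.IsFullyNormalized Y)
    {m : L} (hm : m ∈ mSub st hY.1 lg) (hYP : Y ≤ P) (hPW : P ≤ T ⊓ T₁) (hd : Defd lg m P) :
    Fn (meetSys st) P (cj lg.emb m) := by
  classical
  haveI := lg.fin
  have hYS : Y ≤ S := hY.1.trans st.sc.1
  haveI := finite_of_le_base hYS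
  haveI := finite_of_le_base (normalizerIn_le (S := S) (P := Y))
  set M := mSub st hY.1 lg with hM
  have hWM : wRange (T ⊓ T₁) lg ≤ M := le_sup_right
  have hWp : IsPGroup p (wRange (T ⊓ T₁) lg) :=
    (((st.isp.to_le normalizerIn_le).to_subgroup _).map _)
  let PM : Sylow p M := CfsgLib.Fusion.Basic.sylowSubgroupOf hWM hWp (mSub_sylow st hY.1 lg hYn)
  have hPM : ∀ a : M, a ∈ (PM : Subgroup M) ↔ (a : L) ∈ wRange (T ⊓ T₁) lg := fun a => by
    rw [CfsgLib.Fusion.Basic.coe_sylowSubgroupOf, Subgroup.mem_subgroupOf]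
  have hwr : ∀ {w : normalizerIn S Y}, lg.emb w ∈ wRange (T ⊓ T₁) lg → (w : Ω) ∈ T ⊓ T₁ := by
    rintro w ⟨v, hv, hvw⟩
    exact lg.inj hvw ▸ hv
  have hYN : Y ≤ normalizerIn S Y := le_normalizerIn hYS
  let YM : Subgroup M := ((Y.subgroupOf (normalizerIn S Y)).map lg.emb).subgroupOf M
  haveI hYMn : YM.Normal := ⟨fun a ha b => by
    obtain ⟨y, hy, hya⟩ := ha
    obtain ⟨hval, hyN, z, hz⟩ := lg.rel (b : L) (y : Ω) (Subgroup.mem_sup_left hy)
    rw [cj_eq lg.inj hyN hz] at hval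
    refine ⟨z, show (z : Ω) ∈ Y from hval ▸ lg.act_Y _ _ hy, ?_⟩
    rw [hz, show (⟨(y : Ω), hyN⟩ : normalizerIn S Y) = y from rfl, hya]
    rfl⟩
  have hYMp : IsPGroup p YM :=
    ((((st.isp.to_le normalizerIn_le).to_subgroup _).map _).comap_of_injective _ (Subgroup.subtype_injective M))
  have key : ∀ (A : Set M) (g : M), Chain PM A g → ∀ P : Subgroup Ω, Y ≤ P → P ≤ T ⊓ T₁ →
      (∀ x ∈ P, ∃ (hx : x ∈ normalizerIn S Y) (h : lg.emb ⟨x, hx⟩ ∈ M), (⟨lg.emb ⟨x, hx⟩, h⟩ : M) ∈ A) →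
      Fn (meetSys st) P (cj lg.emb ((g⁻¹ : M) : L)) := by
    intro A g hc
    induction hc with
    | nil A hA =>
      intro P hYP hPW hPA
      rw [inv_one]
      exact (fn_id hPW).congr fun x hx => (cj_one (hPA x hx).1).symm
    | cons A Q x g ht hx hA _ ih =>
      intro P hYP hPW hPA
      set Dd : Subgroup M := (PM : Subgroup M) ⊓ (Q : Subgroup M) with hDd
      let RD : Subgroup Ω := ((Dd.map M.subtype).comap lg.emb).map (normalizerIn S Y).subtype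
      have hmemD : ∀ {w : Ω}, w ∈ RD ↔
          ∃ (hw : w ∈ normalizerIn S Y) (h : lg.emb ⟨w, hw⟩ ∈ M), (⟨lg.emb ⟨w, hw⟩, h⟩ : M) ∈ Dd := by
        intro w
        constructor
        · rintro ⟨v, ⟨d, hd, hdv⟩, rfl⟩
          have hdv' : (d : L) = lg.emb v := hdv
          exact ⟨v.2, hdv' ▸ d.2, (Subtype.ext hdv' : d = ⟨lg.emb v, hdv' ▸ d.2⟩) ▸ hd⟩
        · rintro ⟨hw, h, hd⟩
          exact ⟨⟨w, hw⟩, ⟨_, hd, rfl⟩, rfl⟩
      have hRDW : RD ≤ T ⊓ T₁ := fun w hw => by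
        obtain ⟨hwN, h, hd⟩ := hmemD.1 hw
        exact hwr ((hPM _).1 hd.1)
      have hRDN : RD ≤ normalizerIn S Y := fun w hw => (hmemD.1 hw).1
      have hYRD : Y ≤ RD := fun y hy => hmemD.2 <| by
        have h : lg.emb ⟨y, hYN hy⟩ ∈ M :=
          hWM (Subgroup.mem_map_of_mem lg.emb (show (⟨y, hYN hy⟩ : normalizerIn S Y) ∈ _ from hY.1 hy))
        have hmem : (⟨lg.emb ⟨y, hYN hy⟩, h⟩ : M) ∈ YM :=
          Subgroup.mem_map_of_mem lg.emb (show (⟨y, hYN hy⟩ : normalizerIn S Y) ∈ _ from hy)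
        exact ⟨hYN hy, h, hYMp.le_sylow_of_normal PM hmem, hYMp.le_sylow_of_normal Q hmem⟩
      set K : Subgroup M := Subgroup.normalizer (Dd : Set M) with hKdef
      have hKd : ∀ a ∈ K, Defd lg (a : L) RD ∧ ∀ w ∈ RD, cj lg.emb (a : L) w ∈ RD := by
        intro a ha
        have h1 : ∀ w ∈ RD, ∃ (hw : w ∈ normalizerIn S Y) (v : normalizerIn S Y),
            lg.emb v = (a : L) * lg.emb ⟨w, hw⟩ * (a : L)⁻¹ ∧ (v : Ω) ∈ RD := fun w hw => by
          obtain ⟨hwN, h, hd⟩ := hmemD.1 hw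
          have h2 := (Subgroup.mem_normalizer_iff.1 ha _).1 hd
          obtain ⟨v, -, hve⟩ := (hPM _).1 h2.1
          have hve' : lg.emb v = (a : L) * lg.emb ⟨w, hwN⟩ * (a : L)⁻¹ := hve
          have hvM : lg.emb v ∈ M := hve' ▸ (a * ⟨_, h⟩ * a⁻¹ : M).2
          exact ⟨hwN, v, hve', hmemD.2 ⟨v.2, hvM, (Subtype.ext hve : (⟨lg.emb v, hvM⟩ : M) = _) ▸ h2⟩⟩
        refine ⟨fun w hw => let ⟨hwN, v, hv, _⟩ := h1 w hw; ⟨hwN, v, hv⟩, fun w hw => ?_⟩
        obtain ⟨hwN, v, hv, hvD⟩ := h1 w hw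
        rwa [cj_eq lg.inj hwN hv]
      have hi : ¬ p ∣ ((PM : Subgroup M) ⊓ K).relIndex K := ht.1
      have hfx := mSub_step st lg hY hYn hYRD hRDW hRDN
        (CfsgLib.Fusion.Basic.sylowSubgroupOf (inf_le_right : (PM : Subgroup M) ⊓ K ≤ K)
          (PM.2.to_le inf_le_left) hi) hKd
        (fun a ha => by
          rw [CfsgLib.Fusion.Basic.coe_sylowSubgroupOf, Subgroup.mem_subgroupOf] at ha
          exact (hPM _).1 ha.1) x⁻¹ (Subgroup.inv_mem _ hx)
      obtain ⟨hxd, hxm⟩ := hKd x⁻¹ (Subgroup.inv_mem _ hx)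
      have hPR : P ≤ RD := fun w hw => by
        obtain ⟨hwN, h, ha⟩ := hPA w hw
        exact hmemD.2 ⟨hwN, h, hA ha⟩
      have hP1 := hfx.mono hPR
      set P1 := img (cj lg.emb ((x⁻¹ : M) : L)) P with hP1def
      have hY1 : Y ≤ P1 := by
        refine (lg.img_act hYS ((x⁻¹ : M) : L)).ge.trans ((img_congr fun y hy => ?_).le.trans (img_mono hYP))
        exact ((lg.rel _ y (Subgroup.mem_sup_left hy)).1).symm
      have hA1 : ∀ v ∈ P1, ∃ (hv : v ∈ normalizerIn S Y) (h : lg.emb ⟨v, hv⟩ ∈ M),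
          (⟨lg.emb ⟨v, hv⟩, h⟩ : M) ∈ (fun a => x⁻¹ * a * x) '' A := by
        intro v hv
        obtain ⟨w, hw, rfl⟩ := hP1.mem_img.1 hv
        obtain ⟨hwN, h, ha⟩ := hPA w hw
        obtain ⟨hwN', y, hy⟩ := hxd w (hPR hw)
        have e := cj_eq lg.inj hwN' hy
        have e2 : lg.emb y = ((x⁻¹ * ⟨_, h⟩ * x : M) : L) := by
          rw [hy]
          simp [mul_assoc]
        have hyN : cj lg.emb ((x⁻¹ : M) : L) w ∈ normalizerIn S Y := by rw [e]; exact y.2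
        refine ⟨hyN, ?_, ⟨_, ha, Subtype.ext ?_⟩⟩
        · rw [show (⟨_, hyN⟩ : normalizerIn S Y) = y from Subtype.ext e, e2]
          exact (x⁻¹ * ⟨_, h⟩ * x : M).2
        · show ((x⁻¹ * ⟨_, h⟩ * x : M) : L) = lg.emb _
          rw [← e2]
          exact congrArg lg.emb (Subtype.ext e.symm)
      have hih := ih P1 hY1 hP1.img_le_base hA1
      have hd1 : Defd lg ((g⁻¹ : M) : L) P1 := fun v hv => by
        obtain ⟨hvN, h, hmem⟩ := hA1 v hv
        have h1 := (Chain.image_subset (by assumption : Chain PM ((fun a => x⁻¹ * a * x) '' A) g))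
          (Set.mem_image_of_mem (fun a => g⁻¹ * a * g) hmem)
        obtain ⟨u, -, hu⟩ := (hPM _).1 h1
        exact ⟨hvN, u, hu.trans (by simp [mul_assoc])⟩
      have hmul := (fn_cj_mul (fun w hw => hxd w (hPR hw)) hd1 (fun w hw => mem_img_of_mem hw) hP1 hih).1
      rwa [show ((g⁻¹ : M) : L) * ((x⁻¹ : M) : L) = (((x * g)⁻¹ : M) : L) by simp] at hmul
  let A : Set M := {a | ∃ x ∈ P, ∃ hx : x ∈ normalizerIn S Y, lg.emb ⟨x, hx⟩ = (a : L)}
  have hA : A ⊆ (PM : Set M) := by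
    rintro a ⟨x, hx, hxN, hxa⟩
    exact (hPM a).2 (hxa ▸ Subgroup.mem_map_of_mem lg.emb
      (show (⟨x, hxN⟩ : normalizerIn S Y) ∈ _ from hPW hx))
  have hAg : (fun a => (⟨m, hm⟩⁻¹ : M)⁻¹ * a * ⟨m, hm⟩⁻¹) '' A ⊆ (PM : Set M) := by
    rintro _ ⟨a, ⟨x, hx, hxN, hxa⟩, rfl⟩
    obtain ⟨_, y, hy⟩ := hd x hx
    refine (hPM _).2 ?_
    have hval : (((⟨m, hm⟩⁻¹ : M)⁻¹ * a * ⟨m, hm⟩⁻¹ : M) : L) = lg.emb y := by
      rw [hy, hxa]
      simp
    rw [hval]
    exact mSub_inf_range st hY.1 lg hYn ⟨hval ▸ SetLike.coe_mem _, y, rfl⟩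
  have h := key A _ (chain_of_conj PM A _ hA hAg) P hYP hPW fun x hx => by
    obtain ⟨hxN, -, -⟩ := hd x hx
    exact ⟨hxN, hWM (Subgroup.mem_map_of_mem lg.emb (show (⟨x, hxN⟩ : normalizerIn S Y) ∈ _ from hPW hx)),
      x, hx, hxN, rfl⟩
  rwa [inv_inv] at h

/-- An element of the generated group extends to the part of `N_W(Y)` it transports into `Aut_W(Y)`. -/
theorem kGen_extend (hY : WCentric F (T ⊓ T₁) Y) (hn : Nice F Y) {k : MulAut Y} (hk : k ∈ kGen p F D D₁ Y)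
    (hYP : Y ≤ P) (hP : P ≤ normalizerIn (T ⊓ T₁) Y)
    (hc : ∀ x ∈ P, ∃ w ∈ T ⊓ T₁, ∀ y ∈ Y, autFn k (x * y * x⁻¹) = w * autFn k y * w⁻¹) :
    ∃ g, Fn (meetSys st) P g ∧ ∀ y ∈ Y, g y = autFn k y := by
  obtain ⟨L, hL, ⟨lg⟩⟩ := exists_local (p := p) st.isp st.sat hn
  letI := hL
  haveI := lg.fin
  have hYS : Y ≤ S := hY.1.trans st.sc.1
  haveI := finite_of_le_base hYS
  have hYn := hn.1
  obtain ⟨m, hm, hmk⟩ := kGen_le_image st lg hY.1 hYn hk
  set M := mSub st hY.1 lg with hM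
  set res := resY lg (base_le st hY.1)
  obtain ⟨RS, hRS⟩ := lg.syl
  haveI := mSub_normal st hY.1 lg
  have hker : M ⊓ res.ker ≤ wRange (T ⊓ T₁) lg := by
    have hKp : IsPGroup p ↥(M ⊓ res.ker) := by
      intro z
      obtain ⟨j, hj⟩ := CfsgLib.Fusion.Basic.exists_pow_coprime (p := p) (z : L)
      refine ⟨j, Subtype.ext ?_⟩
      obtain ⟨hzM, hzk⟩ := (M ⊓ res.ker).pow_mem z.2 (p ^ j)
      have hzX := mSub_le st hY.1 lg hzM
      set z' := (z : L) ^ p ^ j with hz'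
      show z' = 1
      have hfix : ∀ y ∈ Y, autFn (lg.act z') y = y := fun y hy => by
        rw [← resY_apply lg (base_le st hY.1) z' hy, show resY lg (base_le st hY.1) z' = 1 from hzk, autFn_id hy]
      have hmv : ∀ x ∈ Y ⊔ centralizerIn S Y, x⁻¹ * autFn (lg.act z') x ∈ Y := by
        intro x hx
        obtain ⟨y, hy, c, hcc, rfl⟩ := mem_sup_of_commute
          (fun a ha b hb => (mem_centralizerIn.1 hb).2 a ha) hx
        have hd : c⁻¹ * autFn (lg.act z') c ∈ Y := hY.2 Y (isConj_refl hYS) <| mem_centralizerIn.2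
          ⟨hzX.1 c hcc, fun y' hy' => by
            have e1 : Commute y' c := (mem_centralizerIn.1 hcc).2 y' hy'
            have e2 : Commute y' (autFn (lg.act z') c) := (mem_centralizerIn.1 (lg.act_C hYS z' hcc)).2 y' hy'
            exact (e1.inv_right.mul_right e2).eq⟩
        rw [(lg.fn_act hYS z').map_mul (Subgroup.mem_sup_left hy) (Subgroup.mem_sup_right hcc), hfix y hy,
          show (y * c)⁻¹ * (y * autFn (lg.act z') c) = c⁻¹ * autFn (lg.act z') c by group]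
        exact hd
      have hpc := pow_card_eq_one_of_fix le_sup_left hfix hmv
      obtain ⟨K, hK⟩ := IsPGroup.iff_card.1 (st.isp.to_le hYS)
      rw [hK] at hpc
      have hact : lg.act z' = 1 := orderOf_eq_one_iff.1 (Nat.eq_one_of_dvd_coprimes (hj.pow_right K)
        (orderOf_map_dvd lg.act z') (orderOf_dvd_of_pow_eq_one hpc))
      obtain ⟨v, -, hv⟩ := lg.act_ker z' hact
      obtain ⟨i, hi⟩ := st.isp.to_le normalizerIn_le v
      refine orderOf_eq_one_iff.1 (Nat.eq_one_of_dvd_coprimes (hj.pow_right i) dvd_rfl (orderOf_dvd_of_pow_eq_one ?_))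
      rw [hv, ← map_pow, hi, map_one]
    exact (le_inf inf_le_left ((hKp.le_sylow_of_normal RS).trans hRS.le)).trans
      (mSub_inf_range st hY.1 lg hYn)
  have hPN : P ≤ normalizerIn S Y := fun x hx => ⟨st.sc.1 (hP hx).1, (hP hx).2⟩
  have hPW : P ≤ T ⊓ T₁ := fun x hx => (hP hx).1
  have hd : Defd lg m P := fun x hx => by
    obtain ⟨w, hw, hwk⟩ := hc x hx
    have hwn : w ∈ Subgroup.normalizer (Y : Set Ω) := mem_normalizer_of_map_le fun y hy => by
      have hz : autFn k⁻¹ y ∈ Y := autFn_mem _ hy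
      have h1 := hwk _ hz
      rw [autFn_apply_inv k hy] at h1
      rw [← h1]
      exact autFn_mem k ((mem_normalizer_iff'.1 (hP hx).2).1 _ hz)
    let w' : normalizerIn S Y := ⟨w, st.sc.1 hw, hwn⟩
    let x' : normalizerIn S Y := ⟨x, hPN hx⟩
    have hzM : (lg.emb w')⁻¹ * (m * lg.emb x' * m⁻¹) ∈ M :=
      M.mul_mem (M.inv_mem (Subgroup.mem_sup_right (Subgroup.mem_map_of_mem lg.emb hw)))
        (M.mul_mem (M.mul_mem hm (Subgroup.mem_sup_right (Subgroup.mem_map_of_mem lg.emb (hPW hx)))) (M.inv_mem hm))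
    have hzk : res (lg.emb w') = res (m * lg.emb x' * m⁻¹) := mulAut_ext fun y hy => by
      have hz : autFn k⁻¹ y ∈ Y := autFn_mem _ hy
      rw [resY_emb lg (base_le st hY.1) w' hy, map_mul, map_mul, map_inv, hmk, autFn_mul _ _ hy,
        autFn_mul _ _ hz, resY_emb lg (base_le st hY.1) x' hz, hwk _ hz, autFn_apply_inv k hy]
    obtain ⟨v, -, hv⟩ := hker ⟨hzM, show res _ = 1 by rw [map_mul, map_inv, hzk, inv_mul_cancel]⟩
    exact ⟨hPN hx, w' * v, by rw [map_mul, hv, mul_inv_cancel_left]⟩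
  refine ⟨_, mSub_fusion st lg hY hYn hm hYP hPW hd, fun y hy => ?_⟩
  rw [(lg.rel m y (Subgroup.mem_sup_left hy)).1, ← resY_apply lg (base_le st hY.1) m hy, hmk]

end CfsgLib.Fsys.Meet
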