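import Cfsg.Agent.Lib.FusionSystem.Meet.Model

/-! The fusion of the local group lies in the meet. -/

set_option autoImplicit false

namespace CfsgLib.Fsys.Meet

open Cfsg Cfsg.FusionSystem CfsgLib.Fsys.WNR
open Cfsg.FusionSystem (centralizerIn normalizerIn)
open scoped Pointwise

universe u

variable {Ω : Type u} [Group Ω] {S T T₁ : Subgroup Ω} {F : FusionSystem S} {D : FusionSystem T}
  {D₁ : FusionSystem T₁} {Y Q R : Subgroup Ω} {p : ℕ} [Fact p.Prime] [Finite S] {L : Type u} [Group L]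

omit [Fact p.Prime] in
theorem centric_fullyCentralized (hY : F.IsCentric Y) : F.IsFullyCentralized Y := by
  refine ⟨hY.1, fun Z hZ => ?_⟩
  obtain ⟨g, hg, hgi⟩ := isConj_iff.1 (isConj_symm hZ)
  have hle := hY.2 Z hZ
  exact card_le_of_map_le centralizerIn_le (hg.mono hle) fun x hx => hg.map_centralizer le_rfl hgi (hle hx) hx

/-- An element whose `p`-power image lies in a normalized subgroup and of order prime to `p` lies in it. -/
theorem mem_of_stabilizer {A : Subgroup Ω} {H : Subgroup (MulAut A)} [Finite A] {γ d : MulAut A}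
    (hγ : γ ∈ H) (hd : ∀ h ∈ H, d * h * d⁻¹ ∈ H) {K : ℕ} (hdp : d ^ p ^ K = 1)
    (hco : Nat.Coprime (orderOf (γ * d)) p) : γ * d ∈ H := by
  have hdj : ∀ j : ℕ, ∀ h ∈ H, d ^ j * h * (d ^ j)⁻¹ ∈ H := fun j => by
    induction j with
    | zero => intro h hh; simpa using hh
    | succ j ih =>
      intro h hh
      have := hd _ (ih h hh)
      rwa [show d * (d ^ j * h * (d ^ j)⁻¹) * d⁻¹ = d ^ (j + 1) * h * (d ^ (j + 1))⁻¹ by
        rw [pow_succ' d j]; group] at this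
  have hj : ∀ j : ℕ, (γ * d) ^ j * (d ^ j)⁻¹ ∈ H := fun j => by
    induction j with
    | zero => simp
    | succ j ih =>
      rw [show (γ * d) ^ (j + 1) * (d ^ (j + 1))⁻¹ =
        (γ * d) ^ j * (d ^ j)⁻¹ * (d ^ j * γ * (d ^ j)⁻¹) by rw [pow_succ, pow_succ]; group]
      exact mul_mem ih (hdj j γ hγ)
  have h1 := hj (p ^ K)
  rw [hdp, inv_one, mul_one] at h1
  obtain ⟨m, hm⟩ := exists_pow_eq_self_of_coprime (hco.pow_right K).symm
  exact hm ▸ pow_mem h1 m

theorem cj_pow {N : Subgroup Ω} {ι : N →* L} {A : Subgroup Ω} {l : L} {a : MulAut A}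
    (h : ∀ x ∈ A, ∃ (hx : x ∈ N) (y : N), ι y = l * ι ⟨x, hx⟩ * l⁻¹ ∧ (y : Ω) = autFn a x) (j : ℕ) :
    ∀ x ∈ A, ∃ (hx : x ∈ N) (y : N), ι y = l ^ j * ι ⟨x, hx⟩ * (l ^ j)⁻¹ ∧ (y : Ω) = autFn (a ^ j) x := by
  induction j with
  | zero =>
    intro x hx
    obtain ⟨hxN, -, -, -⟩ := h x hx
    exact ⟨hxN, ⟨x, hxN⟩, by simp, by rw [pow_zero, autFn_id hx]⟩
  | succ j ih =>
    intro x hx
    obtain ⟨hxN, y, hy, hya⟩ := h x hx
    have hyA : (y : Ω) ∈ A := hya ▸ autFn_mem a hx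
    obtain ⟨hyN, z, hz, hza⟩ := ih y hyA
    refine ⟨hxN, z, ?_, by rw [hza, hya, pow_succ, autFn_mul _ _ hx]⟩
    rw [hz, show (⟨(y : Ω), hyN⟩ : N) = y from rfl, hy, pow_succ]
    group

theorem coprime_of_cj {N : Subgroup Ω} {ι : N →* L} (hι : Function.Injective ι) {A : Subgroup Ω} {l : L}
    {a : MulAut A}
    (h : ∀ x ∈ A, ∃ (hx : x ∈ N) (y : N), ι y = l * ι ⟨x, hx⟩ * l⁻¹ ∧ (y : Ω) = autFn a x)
    (hl : Nat.Coprime (orderOf l) p) : Nat.Coprime (orderOf a) p := by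
  refine Nat.Coprime.coprime_dvd_left (orderOf_dvd_of_pow_eq_one (mulAut_ext fun x hx => ?_)) hl
  obtain ⟨hxN, y, hy, hya⟩ := cj_pow h (orderOf l) x hx
  rw [pow_orderOf_eq_one, one_mul, inv_one, mul_one] at hy
  rw [← hya, hι hy, autFn_id hx]

variable (st : Setup F D D₁ p)

/-- The values of conjugation by `l` on a subgroup, given on generators. -/
theorem dom_sup (lg : LocalGroup p F Y L) {A B : Subgroup Ω} {l : L}
    (hA : ∀ x ∈ A, ∃ (hx : x ∈ normalizerIn S Y) (y : normalizerIn S Y), lg.emb y = l * lg.emb ⟨x, hx⟩ * l⁻¹)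
    (hB : ∀ x ∈ B, ∃ (hx : x ∈ normalizerIn S Y) (y : normalizerIn S Y), lg.emb y = l * lg.emb ⟨x, hx⟩ * l⁻¹) :
    ∀ x ∈ A ⊔ B, ∃ (hx : x ∈ normalizerIn S Y) (y : normalizerIn S Y), lg.emb y = l * lg.emb ⟨x, hx⟩ * l⁻¹ := by
  let K : Subgroup Ω := ((lg.emb.range.comap (MulAut.conj l).toMonoidHom).comap lg.emb).map (normalizerIn S Y).subtype
  have hle : A ⊔ B ≤ K := by
    refine sup_le ?_ ?_ <;> intro x hx
    · obtain ⟨hxN, y, hy⟩ := hA x hx
      exact ⟨⟨x, hxN⟩, ⟨y, hy⟩, rfl⟩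
    · obtain ⟨hxN, y, hy⟩ := hB x hx
      exact ⟨⟨x, hxN⟩, ⟨y, hy⟩, rfl⟩
  intro x hx
  obtain ⟨z, ⟨y, hy⟩, rfl⟩ := hle hx
  exact ⟨z.2, y, hy⟩

include st in
/-- A coprime element of the compatible group preserving `R` lifts compatibly there. -/
theorem compatLift_restrict (lg : LocalGroup p F Y L) (hY : WCentric F (T ⊓ T₁) Y) (hYn : F.IsFullyNormalized Y)
    (hYR : Y ≤ R) (hRW : R ≤ T ⊓ T₁) (hRN : R ≤ normalizerIn S Y) {n : L} (hn : n ∈ xSub st hY.1 lg)
    (hco : Nat.Coprime (orderOf n) p) {ν : MulAut R}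
    (hν : ∀ x : R, ∃ y : normalizerIn S Y,
      lg.emb y = n * lg.emb ⟨x, hRN x.2⟩ * n⁻¹ ∧ (y : Ω) = autFn ν x) :
    Nat.Coprime (orderOf ν) p ∧ CompatLift F D D₁ R ν := by
  have hYS : Y ≤ S := hY.1.trans st.sc.1
  refine ⟨coprime_of_cj lg.inj (fun x hx => ⟨hRN hx, hν ⟨x, hx⟩⟩) hco, ?_⟩
  have hRdom : ∀ x ∈ R, ∃ (hx : x ∈ normalizerIn S Y) (y : normalizerIn S Y),
      lg.emb y = n * lg.emb ⟨x, hx⟩ * n⁻¹ := fun x hx =>
    let ⟨y, hy, _⟩ := hν ⟨x, hx⟩
    ⟨hRN hx, y, hy⟩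
  have hdom := dom_sup lg hRdom fun v hv => (lg.rel n v hv).2
  have hle : R ⊔ (Y ⊔ centralizerIn S Y) ≤ normalizerIn S Y := sup_le hRN (sup_le_normalizer hYS)
  have hf := lg.realize n _ hle hdom
  set f := cj lg.emb n
  have hfR : ∀ x ∈ R, f x = autFn ν x := fun x hx => by
    obtain ⟨y, hy, hyν⟩ := hν ⟨x, hx⟩
    exact (cj_eq lg.inj (hRN hx) hy).trans hyν
  have hfV : ∀ v ∈ Y ⊔ centralizerIn S Y, f v = autFn (lg.act n) v := fun v hv => (lg.rel n v hv).1
  have hCR : centralizerIn S R ≤ centralizerIn S Y := fun c hc =>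
    mem_centralizerIn.2 ⟨hc.1, fun y hy => (mem_centralizerIn.1 hc).2 y (hYR hy)⟩
  have hRV : R ⊔ centralizerIn S R ≤ R ⊔ (Y ⊔ centralizerIn S Y) := sup_le_sup le_rfl (hCR.trans le_sup_right)
  have hfimg : img f R = R := (img_congr hfR).trans (img_autFn ν)
  have part : ∀ {U : Subgroup Ω} {E : FusionSystem U}, E.IsWeaklyNormalIn F p → T ⊓ T₁ ≤ U →
      Fn E (Y ⊔ centralizerIn U Y) (autFn (lg.act n)) → Fn E (R ⊔ centralizerIn U R) f := by
    intro U E hE hU hnE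
    have hUsc := hE.2.2.2.1
    have hYU := hY.1.trans hU
    haveI := finite_of_le_base hUsc.1
    set VU := Y ⊔ centralizerIn U Y with hVU
    have hVUU : VU ≤ U := sup_le hYU inf_le_left
    have hfc := fullyCentralized_sub st.isp st.sat hUsc hE.2.2.1 hYU (fullyNormalized_good st.isp st.sat hYn).2
    have hVc : E.IsCentric VU := ⟨hVUU, fun Z hZ c hc => by
      obtain ⟨g, hg, rfl⟩ := isConj_iff.1 hZ
      have hC : img g (centralizerIn U Y) = centralizerIn U (img g Y) :=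
        img_eq_of_card_le centralizerIn_le (hg.mono le_sup_right)
          (fun x hx => hg.map_centralizer le_sup_left rfl (Subgroup.mem_sup_right hx) hx)
          (hfc.2 _ (isConj_of_fn (hg.mono le_sup_left)))
      rw [hg.img_sup, hC] at hc ⊢
      exact Subgroup.mem_sup_right (mem_centralizerIn.2
        ⟨(mem_centralizerIn.1 hc).1, fun y hy => (mem_centralizerIn.1 hc).2 y (Subgroup.mem_sup_left hy)⟩)⟩
    set A := R ⊔ VU with hA
    have hAU : A ≤ U := sup_le (hRW.trans hU) hVUU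
    have hfA := hf.mono (sup_le_sup le_rfl (sub_le_sup hUsc.1) : A ≤ _)
    haveI := finite_of_le_base hfA.le
    have hfVU : ∀ v ∈ VU, f v ∈ VU := fun v hv => by
      rw [hfV v (sub_le_sup hUsc.1 hv)]
      exact lg.act_sub hYS n hUsc hv
    obtain ⟨a, ha, hae⟩ := exists_aut_of_fn hfA (hfA.img_eq_self fun x hx => by
      have h1 := mem_img_of_mem (f := f) hx
      rw [hfA.img_sup, hfimg] at h1
      exact sup_le_sup le_rfl (img_le hfVU) h1)
    have hnV : img (autFn (lg.act n)) VU = VU := by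
      haveI := finite_of_le_base (hVUU.trans hUsc.1)
      exact (Fn.of_subsystem hE.2.2.1 hnE).img_eq_self fun v hv => lg.act_sub hYS n hUsc hv
    obtain ⟨N, g, hg, -, hN, hge⟩ := receptive_extend
      (fullyCentralized_receptive (st.isp.to_le hUsc.1) hE.1 (centric_fullyCentralized hVc)) hnE hnV
    have hgV : ∀ v ∈ VU, g v = f v := fun v hv => (hge v hv).trans (hfV v (sub_le_sup hUsc.1 hv)).symm
    have hAN : A ≤ N := sup_le (fun x hx => (hN x).2 ?_) fun v hv => (hN v).2 (inExt_of_mem hnE hv)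
    swap
    · have hxS : x ∈ S := st.sc.1 (hRW hx)
      haveI := finite_of_le_base hVUU
      have hxV : ∀ v ∈ VU, x * v * x⁻¹ ∈ VU := fun v hv => by
        have hc : Fn F VU (fun z => x * z * x⁻¹) := fn_conj (hVUU.trans hUsc.1) hxS
        have h1 := mem_img_of_mem (f := fun z => x * z * x⁻¹) hv
        rw [hc.img_sup] at h1
        refine sup_le_sup (img_le fun y hy => (mem_normalizer_iff'.1 (hRN hx).2).1 y hy) (img_le fun c hc => ?_) h1
        refine mem_centralizerIn.2 ⟨sc_conj hUsc hxS hc.1, fun y hy => ?_⟩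
        have h2 := (mem_centralizerIn.1 hc).2 _ ((mem_normalizer_iff'.1 (hRN hx).2).2 y hy)
        calc y * (x * c * x⁻¹) = x * (x⁻¹ * y * x * c) * x⁻¹ := by group
          _ = x * (c * (x⁻¹ * y * x)) * x⁻¹ := by rw [h2]
          _ = _ := by group
      refine ⟨hU (hRW hx), mem_normalizer_of_map_le hxV, f x,
        hU (hRW (hfimg.le (mem_img_of_mem hx))), fun v hv => ?_⟩
      rw [← hfV _ (sub_le_sup hUsc.1 (hxV v hv)), ← hfV v (sub_le_sup hUsc.1 hv)]
      exact hfA.map_conj (Subgroup.mem_sup_left hx) (Subgroup.mem_sup_right hv)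
    have hgA := hg.mono hAN
    have hgF := Fn.of_subsystem hE.2.2.1 hgA
    have hdiff : ∀ x ∈ A, (g x)⁻¹ * f x ∈ VU := by
      intro x hx
      have hxn : ∀ v ∈ VU, x * v * x⁻¹ ∈ A := fun v hv =>
        A.mul_mem (A.mul_mem hx (Subgroup.mem_sup_right hv)) (A.inv_mem hx)
      refine hVc.2 VU (isConj_refl hVUU) (mem_centralizerIn.2 ⟨U.mul_mem (U.inv_mem (hgA.mem hx))
        (sc_apply hUsc hfA hx (hAU hx)), fun w hw => ?_⟩)
      obtain ⟨v, hv, rfl⟩ := (hgA.mono le_sup_right).mem_img.1 (show w ∈ img g VU from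
        ((img_congr hge).trans hnV).ge hw)
      have hxv : x * v * x⁻¹ ∈ VU := by
        haveI := finite_of_le_base hVUU
        have h1 : x ∈ Subgroup.normalizer (VU : Set Ω) := by
          refine (sup_le (fun r hr => ((hN r).1 (hAN (Subgroup.mem_sup_left hr))).2.1) Subgroup.le_normalizer :
            A ≤ _) hx
        exact (mem_normalizer_iff'.1 h1).1 v hv
      have e1 : g (x * v * x⁻¹) = f (x * v * x⁻¹) := hgV _ hxv
      rw [hgA.map_conj hx (Subgroup.mem_sup_right hv), hfA.map_conj hx (Subgroup.mem_sup_right hv),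
        ← hgV v hv] at e1
      calc g v * ((g x)⁻¹ * f x) = (g x)⁻¹ * (g x * g v * (g x)⁻¹) * f x := by group
        _ = (g x)⁻¹ * (f x * g v * (f x)⁻¹) * f x := by rw [e1]
        _ = _ := by group
    obtain ⟨γ, hγ, hγe⟩ := exists_aut_of_fn hgA (hgF.img_eq_self fun x hx => by
      have h1 : f x ∈ A := hae ⟨x, hx⟩ ▸ (a ⟨x, hx⟩).2
      rw [show g x = f x * ((g x)⁻¹ * f x)⁻¹ by group]
      exact A.mul_mem h1 (A.inv_mem (Subgroup.mem_sup_right (hdiff x hx))))
    have hγF := autGroup_mono' hE.2.2.1 A hγ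
    set d := γ⁻¹ * a with hd
    have hdfix : ∀ v ∈ VU, autFn d v = v := fun v hv => by
      have hvA : v ∈ A := Subgroup.mem_sup_right hv
      rw [hd, autFn_mul _ _ hvA, autFn_coe a ⟨v, hvA⟩, hae, ← hgV v hv]
      show autFn γ⁻¹ (g v) = v
      rw [← hγe ⟨v, hvA⟩, ← autFn_coe γ ⟨v, hvA⟩, autFn_inv_apply γ hvA]
    have hdmove : ∀ x ∈ A, x⁻¹ * autFn d x ∈ VU := fun x hx => by
      have hdx := autFn_mem d hx
      have e : autFn γ (autFn d x) = f x := by
        rw [← autFn_mul γ d hx, hd, mul_inv_cancel_left, autFn_coe a ⟨x, hx⟩, hae]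
      have hm : g (x⁻¹ * autFn d x) ∈ img g VU := by
        rw [hgA.map_mul (A.inv_mem hx) hdx, hgA.map_inv hx,
          show g (autFn d x) = autFn γ (autFn d x) from ((autFn_coe γ ⟨_, hdx⟩).trans (hγe ⟨_, hdx⟩)).symm, e,
          (img_congr hge).trans hnV]
        exact hdiff x hx
      exact (hgA.map_mem_iff le_sup_right (A.mul_mem (A.inv_mem hx) hdx)).1 hm
    haveI := finite_of_le_base hVUU
    obtain ⟨K, hK⟩ := IsPGroup.iff_card.1 (st.isp.to_le (hVUU.trans hUsc.1))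
    have hdp : d ^ p ^ K = 1 := by
      rw [← hK]
      exact pow_card_eq_one_of_fix le_sup_right hdfix hdmove
    have hmem : a ∈ E.autGroup A := by
      have hco' : Nat.Coprime (orderOf (γ * d)) p := by
        rw [hd, mul_inv_cancel_left]
        exact coprime_of_cj lg.inj (fun x hx => by
          obtain ⟨hxN, y, hy⟩ := hdom x (sup_le_sup le_rfl (sub_le_sup hUsc.1) hx)
          exact ⟨hxN, y, hy, by rw [autFn_coe a ⟨x, hx⟩, hae]; exact (cj_eq lg.inj hxN hy).symm⟩) hco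
      have hdF : d ∈ F.autGroup A := mul_mem (inv_mem hγF) ha
      have := mem_of_stabilizer hγ (fun h hh => Invariant.conj_mem hE.2.2 hAU hdF hh) hdp hco'
      rwa [hd, mul_inv_cancel_left] at this
    have hRA : R ⊔ centralizerIn U R ≤ A := by
      have hCU : centralizerIn U R ≤ centralizerIn U Y := fun c hc =>
        mem_centralizerIn.2 ⟨hc.1, fun y hy => (mem_centralizerIn.1 hc).2 y (hYR hy)⟩
      exact sup_le_sup le_rfl (hCU.trans le_sup_right)
    exact (((mem_autGroup_iff_fn hAU).1 hmem).mono hRA).congr fun x hx =>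
      (autFn_coe a ⟨x, hRA hx⟩).trans (hae ⟨x, hRA hx⟩)
  refine ⟨f, hf.mono hRV, hfR, fun c hc => ?_, part st.wn inf_le_left hn.2.1, part st.wn₁ inf_le_right hn.2.2⟩
  rw [hfV c (Subgroup.mem_sup_right (hCR hc))]
  exact hn.1 c (hCR hc)

end CfsgLib.Fsys.Meet
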