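import Cfsg.Agent.Lib.FusionSystem.Meet.Frattini
import Cfsg.Agent.Lib.FusionSystem.Criterion

/-! The layers of the meet by the order of the subgroups. -/

set_option autoImplicit false

namespace CfsgLib.Fsys.Meet

open Cfsg Cfsg.FusionSystem CfsgLib.Fsys.WNR
open Cfsg.FusionSystem (centralizerIn normalizerIn)


universe u

variable {Ω : Type u} [Group Ω] {S T T₁ : Subgroup Ω} {F : FusionSystem S} {D : FusionSystem T}
  {D₁ : FusionSystem T₁} {P Q R X Y : Subgroup Ω} {p : ℕ}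

/-- A transported generator, with its values. -/
theorem exists_congr [Finite S] {g : Ω → Ω} (hg : Fn F Y g) (hi : img g Y = Q) {β : MulAut Y}
    (hβ : β ∈ kGen p F D D₁ Y) : ∃ β' ∈ kGen p F D D₁ Q, ∀ y ∈ Y, autFn β' (g y) = g (autFn β y) := by
  obtain ⟨e, he, -⟩ := exists_transport hg.le hg hi
  refine ⟨_, kGen_congr hg hi e he hβ, fun y hy => ?_⟩
  lift y to Y using hy
  rw [← he y, autFn_coe, show (MulAut.congr e β) (e y) = e (β y) by simp [MulAut.congr], he, autFn_coe]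

variable [Finite S] [Fact p.Prime] (st : Setup F D D₁ p)
include st

theorem isPGroup_base : IsPGroup p ↥(T ⊓ T₁) := st.isp.to_le st.sc.1

theorem finite_base : Finite ↥(T ⊓ T₁) := finite_of_le_base st.sc.1

/-- The part of the meet generated above the order `r`. -/
def upSys (r : ℕ) : FusionSystem (T ⊓ T₁) :=
  predSystem (meetSys st)
    (fun P f => ∀ M : FusionSystem (T ⊓ T₁),
      (∀ Y, WCentric F (T ⊓ T₁) Y → r < Nat.card Y → kGen p F D D₁ Y ≤ M.autGroup Y) → Fn M P f)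
    (fun _ _ _ he _ h M hM => (h M hM).congr he) (fun _ hP _ hs _ _ => fn_conj hP hs)
    (fun _ _ _ _ _ _ hm h h' M hM => (h M hM).comp (h' M hM) hm)
    (fun P f g hf _ hgf h M hM => by
      obtain ⟨k, hk, hkf, -⟩ := (h M hM).exists_inv
      exact hk.congr fun y hy => by
        obtain ⟨x, hx, rfl⟩ := hf.mem_img.1 hy
        rw [hkf x hx, hgf x hx])

theorem upSys_sub (r : ℕ) : (upSys st r).IsSubsystemOf (meetSys st) := fun _ _ h => h.1

theorem kGen_le_upSys {r : ℕ} (hY : WCentric F (T ⊓ T₁) Y) (hr : r < Nat.card Y) :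
    kGen p F D D₁ Y ≤ (upSys st r).autGroup Y := fun _ hβ =>
  (mem_autGroup_iff_fn hY.1).2 (fn_predSystem.2 ⟨(mem_autGroup_iff_fn hY.1).1 (kGen_le_meetSys st hY hβ),
    fun _ hM => (mem_autGroup_iff_fn hY.1).1 (hM Y hY hr hβ)⟩)

theorem upSys_le {r : ℕ} {M : FusionSystem (T ⊓ T₁)}
    (hM : ∀ Y, WCentric F (T ⊓ T₁) Y → r < Nat.card Y → kGen p F D D₁ Y ≤ M.autGroup Y) {f : Ω → Ω}
    (hf : Fn (upSys st r) P f) : Fn M P f :=
  (fn_predSystem.1 hf).2 M hM

/-- The family generating the layer. -/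
theorem upSys_gen (r : ℕ) (E : FusionSystem (T ⊓ T₁))
    (hE : ∀ R ∈ {R | WCentric F (T ⊓ T₁) R ∧ r < Nat.card R}, (upSys st r).Hom R ⊆ E.Hom R) :
    upSys st r ≤ E := fun P φ hφ => by
  refine mem_hom_iff.2 (upSys_le st (fun Y hY hr β hβ => ?_) (fn_ofHom hφ))
  obtain ⟨ψ, hψ, hψe⟩ := (mem_autGroup_iff_fn hY.1).1 (kGen_le_upSys st hY hr hβ)
  exact (mem_autGroup_iff_fn hY.1).2 ⟨ψ, hE Y ⟨hY, hr⟩ hψ, hψe⟩

theorem meetSys_gen (E : FusionSystem (T ⊓ T₁))
    (hE : ∀ R ∈ {R | WCentric F (T ⊓ T₁) R}, (meetSys st).Hom R ⊆ E.Hom R) : meetSys st ≤ E := fun P φ hφ => by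
  refine mem_hom_iff.2 (meetSys_le st (fun Y hY β hβ => ?_) (fn_ofHom hφ))
  obtain ⟨ψ, hψ, hψe⟩ := (mem_autGroup_iff_fn hY.1).1 (kGen_le_meetSys st hY hβ)
  exact (mem_autGroup_iff_fn hY.1).2 ⟨ψ, hE Y hY hψ, hψe⟩

/-- Above the order `r` the layer is the whole meet. -/
theorem fn_upSys {r : ℕ} {f : Ω → Ω} (hf : Fn (meetSys st) P f) (hr : r < Nat.card P) :
    Fn (upSys st r) P f := by
  let M : FusionSystem (T ⊓ T₁) := predSystem (meetSys st) (fun P f => r < Nat.card P → Fn (upSys st r) P f)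
    (fun _ _ _ he _ h hr => (h hr).congr he) (fun _ hP _ hs _ => fn_conj hP hs)
    (fun P R f g hf hg hm h h' hr => by
      haveI := finite_of_le_base (hg.le.trans st.sc.1)
      exact (h hr).comp (h' (hr.trans_le (hf.card_img.ge.trans (Subgroup.card_le_of_le (img_le hm))))) hm)
    (fun P f g hf _ hgf h hr => by
      haveI := finite_base st
      obtain ⟨k, hk, hkf, -⟩ := (h (hf.card_img ▸ hr)).exists_inv
      exact hk.congr fun y hy => by
        obtain ⟨x, hx, rfl⟩ := hf.mem_img.1 hy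
        rw [hkf x hx, hgf x hx])
  refine (fn_predSystem.1 (meetSys_le st (M := M) (fun Y hY β hβ => ?_) hf)).2 hr
  exact (mem_autGroup_iff_fn hY.1).2 (fn_predSystem.2 ⟨(mem_autGroup_iff_fn hY.1).1 (kGen_le_meetSys st hY hβ),
    fun hr => (mem_autGroup_iff_fn hY.1).1 (kGen_le_upSys st hY hr hβ)⟩)

theorem upSys_autGroup {r : ℕ} (hR : R ≤ T ⊓ T₁) (hr : r < Nat.card R) :
    (upSys st r).autGroup R = (meetSys st).autGroup R :=
  le_antisymm (autGroup_mono' (upSys_sub st r) R) fun _ ha =>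
    (mem_autGroup_iff_fn hR).2 (fn_upSys st ((mem_autGroup_iff_fn hR).1 ha) hr)

theorem upSys_good {r : ℕ} (hR : R ≤ T ⊓ T₁) (hr : r < Nat.card R) (h : Criterion.Good (meetSys st) p R) :
    Criterion.Good (upSys st r) p R := by
  haveI := finite_base st
  obtain ⟨Q, hQ, hA, hrec⟩ := h
  have hrQ : r < Nat.card Q := (isConj_card hQ).symm ▸ hr
  obtain ⟨f, hf, hfi⟩ := isConj_iff.1 hQ
  refine ⟨Q, isConj_iff.2 ⟨f, fn_upSys st hf hr, hfi⟩, ?_, receptive_of_extend hrec.1 fun P g hg hgi => ?_⟩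
  · unfold FusionSystem.IsFullyAutomized at hA ⊢
    rwa [upSys_autGroup st hA.1 hrQ]
  · have hgE := hg.of_subsystem (upSys_sub st r)
    obtain ⟨N, k, hk, hPN, hN, hke⟩ := receptive_extend hrec hgE hgi
    refine ⟨k, fun N' hN' => ?_, hke⟩
    have hle : N' ⊔ P ≤ N := sup_le (fun x hx => (hN x).2 (hN' x hx)) hPN
    haveI := finite_of_le_base ((hle.trans hk.le).trans st.sc.1)
    refine (fn_upSys st (hk.mono hle) ?_).mono le_sup_left
    calc r < Nat.card Q := hrQ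
      _ = Nat.card P := hgi ▸ hg.card_img
      _ ≤ _ := Subgroup.card_le_of_le le_sup_right

/-- Below a subgroup, a map of the meet is a map of the layer composed with a generator. -/
theorem dec_level {r : ℕ} {f : Ω → Ω} (hf : Fn (meetSys st) P f) (hXP : X ≤ P) (hX : WCentric F (T ⊓ T₁) X)
    (hr : Nat.card X = r) :
    ∃ k ∈ kGen p F D D₁ X, ∃ b, Fn (upSys st r) X b ∧ ∀ x ∈ X, f x = b (autFn k x) := by
  haveI := finite_base st
  have hMF : (upSys st r).IsSubsystemOf F := fun _ _ h => meetSys_sub st _ (upSys_sub st r _ h)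
  let C : Subgroup Ω → (Ω → Ω) → Prop := fun P f => ∀ X ≤ P, WCentric F (T ⊓ T₁) X → Nat.card X = r →
    ∃ k ∈ kGen p F D D₁ X, ∃ b, Fn (upSys st r) X b ∧ ∀ x ∈ X, f x = b (autFn k x)
  let M : FusionSystem (T ⊓ T₁) := predSystem (meetSys st) C
    (fun P f g he _ h X hX hXc hr => by
      obtain ⟨k, hk, b, hb, hfb⟩ := h X hX hXc hr
      exact ⟨k, hk, b, hb, fun x hx => by rw [← he x (hX hx), hfb x hx]⟩)
    (fun P hP s hs X hX hXc _ => ⟨1, one_mem _, _, fn_conj (hX.trans hP) hs, fun x hx => by rw [autFn_id hx]⟩)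
    (fun P R f g hf hg hm h h' X hX hXc hr => by
      obtain ⟨k, hk, b, hb, hfb⟩ := h X hX hXc hr
      have hi : img f X = img b X := by
        rw [img_congr (f := f) (g := b ∘ autFn k) fun x hx => hfb x hx,
          ((mem_autGroup_iff_fn (hXc.1.trans st.sc.1)).1 (kGen_le_autGroup st hXc.1 hk)).img_comp, img_autFn]
      have hbF := hb.of_subsystem hMF
      have hX' : WCentric F (T ⊓ T₁) (img b X) := hXc.conj st.sc (isConj_of_fn hbF)
      obtain ⟨k', hk', b', hb', hgb⟩ := h' (img b X) (hi ▸ img_le fun x hx => hm x (hX hx)) hX'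
        (hbF.card_img.trans hr)
      obtain ⟨c, hc, hcb, hci⟩ := hb.exists_inv
      obtain ⟨k'', hk'', hke⟩ := exists_congr (hc.of_subsystem hMF) hci hk'
      refine ⟨k'' * k, mul_mem hk'' hk, b' ∘ b, hb.comp hb' fun x hx => mem_img_of_mem hx, fun x hx => ?_⟩
      have hkx : autFn k x ∈ X := autFn_mem k hx
      have hbx : b (autFn k x) ∈ img b X := mem_img_of_mem hkx
      have e1 := hke _ hbx
      rw [hcb _ hkx] at e1
      obtain ⟨z, hz, hze⟩ := hb.mem_img.1 (autFn_mem k' hbx)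
      rw [← hze, hcb z hz] at e1
      show g (f x) = b' (b (autFn (k'' * k) x))
      rw [hfb x hx, hgb _ hbx, autFn_mul _ _ hx, e1, hze])
    (fun P f g hf hg hgf h X hX hXc hr => by
      have hgX := hg.mono hX
      have hX₀P : img g X ≤ P := img_le fun y hy => by
        obtain ⟨x, hx, rfl⟩ := hf.mem_img.1 (hX hy)
        rw [hgf x hx]
        exact hx
      have hgXF := hgX.of_subsystem (meetSys_sub st)
      obtain ⟨k, hk, b, hb, hfb⟩ :=
        h _ hX₀P (hXc.conj st.sc (isConj_of_fn hgXF)) (hgX.card_img.trans hr)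
      have hfg : ∀ y ∈ X, f (g y) = y := fun y hy => by
        obtain ⟨x, hx, rfl⟩ := hf.mem_img.1 (hX hy)
        rw [hgf x hx]
      have hbF := hb.of_subsystem hMF
      have hbi : img b (img g X) = X := by
        refine eq_of_le_of_card hXc.1 (img_le fun z hz => ?_) (by rw [hb.card_img, hgX.card_img])
        rw [show b z = f (autFn k⁻¹ z) by rw [hfb _ (autFn_mem _ hz), autFn_apply_inv k hz]]
        obtain ⟨y, hy, hyz⟩ := hgX.mem_img.1 (autFn_mem k⁻¹ hz)
        rw [← hyz, hfg y hy]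
        exact hy
      obtain ⟨c, hc, hcb, hci⟩ := hb.exists_inv
      rw [hbi] at hc hci
      obtain ⟨k', hk', hke⟩ := exists_congr hbF hbi (inv_mem hk)
      refine ⟨k', hk', c, hc, fun y hy => ?_⟩
      obtain ⟨z, hz, rfl⟩ := hb.mem_img.1 (hbi.ge hy)
      obtain ⟨y₀, hy₀, hy₀e⟩ := hgX.mem_img.1 (autFn_mem k⁻¹ hz)
      have h1 : b z = y₀ := by
        rw [show b z = f (autFn k⁻¹ z) by rw [hfb _ (autFn_mem _ hz), autFn_apply_inv k hz], ← hy₀e, hfg y₀ hy₀]
      rw [hke z hz, hcb _ (autFn_mem _ hz), h1, hy₀e])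
  refine (fn_predSystem.1 (meetSys_le st (M := M) (fun Y hY β hβ => ?_) hf)).2 X hXP hX hr
  refine (mem_autGroup_iff_fn hY.1).2 (fn_predSystem.2
    ⟨(mem_autGroup_iff_fn hY.1).1 (kGen_le_meetSys st hY hβ), fun X hX hXc hr => ?_⟩)
  haveI := finite_of_le_base (hY.1.trans st.sc.1)
  rcases (Subgroup.card_le_of_le hX).eq_or_lt with hc | hc
  · obtain rfl : X = Y := eq_of_le_of_card (S := T ⊓ T₁) hY.1 hX hc.ge
    exact ⟨β, hβ, id, fn_id hY.1, fun _ _ => rfl⟩
  · exact ⟨1, one_mem _, autFn β,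
      ((mem_autGroup_iff_fn hY.1).1 (kGen_le_upSys st hY (hr ▸ hc) hβ)).mono hX,
      fun x hx => by rw [autFn_id hx]⟩

/-- A `p`-element of the automizer of a good subgroup restricts to the generated group. -/
theorem res_mem_kGen {M : FusionSystem (T ⊓ T₁)} (hMF : M.IsSubsystemOf F) (hR : Criterion.Good M p R) (hYR : Y ≤ R)
    {τ : MulAut R} (hτ : τ ∈ M.autGroup R) {j : ℕ} (hp : τ ^ p ^ j = 1) {b : MulAut Y}
    (hb : ∀ y ∈ Y, autFn b y = autFn τ y) : b ∈ kGen p F D D₁ Y := by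
  haveI := finite_base st
  obtain ⟨R', hRR', hA, -⟩ := hR
  obtain ⟨f, hf, hfi⟩ := isConj_iff.1 hRR'
  obtain ⟨e, he, hmap⟩ := exists_transport hf.le hf hfi
  have hτ' : MulAut.congr e τ ∈ M.autGroup R' := hmap ▸ ⟨τ, hτ, rfl⟩
  have hτp : IsPGroup p (Subgroup.zpowers (MulAut.congr e τ)) := by
    obtain ⟨i, -, hi⟩ := (Nat.dvd_prime_pow Fact.out).1
      (orderOf_dvd_of_pow_eq_one (by rw [← map_pow, hp, map_one] : (MulAut.congr e τ) ^ p ^ j = 1))
    exact IsPGroup.of_card (n := i) ((Nat.card_zpowers _).trans hi)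
  obtain ⟨γ, hγ, hγT⟩ := exists_conj_into (isPGroup_base st) hA (Subgroup.zpowers_le.2 hτ') hτp
  obtain ⟨w, hw, hwe⟩ := mem_autInducedBy.1 (hγT _ (Subgroup.mem_zpowers _))
  have hfm : ∀ x ∈ R, f x ∈ R' := fun x hx => hfi.le (mem_img_of_mem hx)
  have hgM := hf.comp ((mem_autGroup_iff_fn hA.1).1 hγ) hfm
  set g := autFn γ ∘ f
  have hg := (hgM.mono hYR).of_subsystem hMF
  have hval : ∀ x ∈ R, g (autFn τ x) = w * g x * w⁻¹ := fun x hx => by
    lift x to R using hx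
    have h1 := hwe (γ (e x))
    simp only [MulAut.mul_apply, MulAut.inv_apply_self] at h1
    rw [show (MulAut.congr e τ) (e x) = e (τ x) by simp [MulAut.congr]] at h1
    show autFn γ (f (autFn τ x)) = w * autFn γ (f x) * w⁻¹
    rw [autFn_coe τ, ← he, ← he, autFn_coe, autFn_coe]
    exact h1
  have hY'W : img g Y ≤ T ⊓ T₁ := (hgM.mono hYR).img_le_base
  have hY'S := hY'W.trans st.sc.1
  haveI := finite_of_le_base hY'S
  have hwn : w ∈ Subgroup.normalizer (img g Y : Set Ω) := mem_normalizer_of_map_le fun z hz => by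
    obtain ⟨y, hy, rfl⟩ := hg.mem_img.1 hz
    rw [← hval y (hYR hy), ← hb y hy]
    exact mem_img_of_mem (autFn_mem b hy)
  obtain ⟨h, hh, hhg, hhi⟩ := hg.exists_inv
  refine kGen_transport hh hhi (autInducedBy_le_kGen st hY'W (conjAut_mem_autInducedBy hwn hw)) fun z hz => ?_
  obtain ⟨y, hy, rfl⟩ := hg.mem_img.1 hz
  rw [hhg y hy, autFn_coe _ ⟨g y, hz⟩, conjAut_coe]
  show _ = h (w * g y * w⁻¹)
  rw [← hval y (hYR hy), ← hb y hy, hhg _ (autFn_mem b hy)]

end CfsgLib.Fsys.Meet
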