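import Cfsg.Agent.Lib.FusionSystem.Meet.Gens
import Cfsg.Agent.Lib.FusionSystem.LocalModels

/-! The local group at a nice subgroup. -/

set_option autoImplicit false

namespace CfsgLib.Fsys.Meet

open Cfsg Cfsg.FusionSystem CfsgLib.Fsys.WNR
open Cfsg.FusionSystem (centralizerIn normalizerIn)

universe u

variable {Ω : Type u} [Group Ω] {S T T₁ : Subgroup Ω} {F : FusionSystem S} {D : FusionSystem T}
  {D₁ : FusionSystem T₁} {Y Q P : Subgroup Ω} {L : Type u} [Group L]

open Classical in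
/-- Conjugation by `l`, read through `ι`. -/
noncomputable def cj {N : Subgroup Ω} (ι : N →* L) (l : L) (x : Ω) : Ω :=
  if h : ∃ (hx : x ∈ N) (y : N), ι y = l * ι ⟨x, hx⟩ * l⁻¹ then (h.choose_spec.choose : Ω) else 1

theorem cj_eq {N : Subgroup Ω} {ι : N →* L} (hι : Function.Injective ι) {l : L} {x : Ω} (hx : x ∈ N) {y : N}
    (h : ι y = l * ι ⟨x, hx⟩ * l⁻¹) : cj ι l x = (y : Ω) := by
  have he : ∃ (hx : x ∈ N) (y : N), ι y = l * ι ⟨x, hx⟩ * l⁻¹ := ⟨hx, y, h⟩
  rw [cj, dif_pos he]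
  exact congrArg Subtype.val (hι (he.choose_spec.choose_spec.trans h.symm))

/-- A group controlling the fusion at `Y`. -/
structure LocalGroup (p : ℕ) (F : FusionSystem S) (Y : Subgroup Ω) (L : Type u) [Group L] where
  fin : Finite L
  emb : normalizerIn S Y →* L
  inj : Function.Injective emb
  syl : ∃ R : Sylow p L, (R : Subgroup L) = emb.range
  act : L →* MulAut ↥(Y ⊔ centralizerIn S Y)
  act_mem : ∀ l, act l ∈ F.autGroup (Y ⊔ centralizerIn S Y)
  act_Y : ∀ l, ∀ y ∈ Y, autFn (act l) y ∈ Y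
  act_emb : ∀ (s : normalizerIn S Y), ∀ v ∈ Y ⊔ centralizerIn S Y,
    autFn (act (emb s)) v = (s : Ω) * v * (s : Ω)⁻¹
  act_surj : ∀ h ∈ F.autGroup (Y ⊔ centralizerIn S Y), (∀ y ∈ Y, autFn h y ∈ Y) → ∃ l, act l = h
  act_ker : ∀ l, act l = 1 → ∃ z : normalizerIn S Y, (z : Ω) ∈ Y ⊔ centralizerIn S Y ∧ l = emb z
  rel : ∀ l, ∀ v ∈ Y ⊔ centralizerIn S Y, cj emb l v = autFn (act l) v ∧
    ∃ (hv : v ∈ normalizerIn S Y) (u : normalizerIn S Y), emb u = l * emb ⟨v, hv⟩ * l⁻¹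
  realize : ∀ l, ∀ P : Subgroup Ω, P ≤ normalizerIn S Y →
    (∀ x ∈ P, ∃ (hx : x ∈ normalizerIn S Y) (y : normalizerIn S Y), emb y = l * emb ⟨x, hx⟩ * l⁻¹) →
    Fn F P (cj emb l)
  realize_inv : ∀ (P : Subgroup Ω) (f : Ω → Ω), Fn F P f → Y ⊔ centralizerIn S Y ≤ P → P ≤ normalizerIn S Y →
    img f Y = Y → ∃ l, ∀ x ∈ P, ∃ (hx : x ∈ normalizerIn S Y) (y : normalizerIn S Y),
      emb y = l * emb ⟨x, hx⟩ * l⁻¹ ∧ (y : Ω) = f x

variable {p : ℕ} [Fact p.Prime] [Finite S]

theorem sup_le_normalizer (hY : Y ≤ S) : Y ⊔ centralizerIn S Y ≤ normalizerIn S Y :=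
  sup_le (le_normalizerIn hY) centralizerIn_le_normalizerIn

theorem exists_local (hS : IsPGroup p S) (hF : F.IsSaturated p) (hn : Nice F Y) :
    ∃ (L : Type u) (_ : Group L), Nonempty (LocalGroup p F Y L) := by
  classical
  obtain ⟨hYn, hV⟩ := hn
  have hYS : Y ≤ S := hYn.1
  set V := Y ⊔ centralizerIn S Y with hVdef
  have hVS : V ≤ S := hV.1
  haveI := finite_of_le_base hVS
  haveI := finite_of_le_base hYS
  have hYc := (fullyNormalized_good hS hF hYn).2
  have hVc : F.IsCentric V := ⟨hVS, fun Z hZ c hc => by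
    obtain ⟨f, hf, rfl⟩ := isConj_iff.1 hZ
    have hfY := hf.mono (le_sup_left : Y ≤ V)
    have hC : img f (centralizerIn S Y) = centralizerIn S (img f Y) :=
      img_eq_of_card_le centralizerIn_le (hf.mono le_sup_right)
        (fun x hx => hf.map_centralizer le_sup_left rfl (Subgroup.mem_sup_right hx) hx)
        (hYc.2 _ (isConj_of_fn hfY))
    rw [hf.img_sup, hC] at hc ⊢
    exact Subgroup.mem_sup_right (mem_centralizerIn.2
      ⟨(mem_centralizerIn.1 hc).1, fun y hy => (mem_centralizerIn.1 hc).2 y (Subgroup.mem_sup_left hy)⟩)⟩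
  obtain ⟨N, hN⟩ := exists_normalizerSystem F hVS
  obtain ⟨G, hG, ι, hmodel⟩ := exists_normalizer_model hS hF hV hVc hN
  letI := hG
  haveI := normalizerSystem_finite (S := S) (Q := V)
  haveI : Finite G := hmodel.1
  have hQN := normalizerSystem_normal hN hVS
  have hcN := centric_of_sub (normalizerSystem_sub hN) hVc (le_normalizerIn hVS)
  obtain ⟨pG, hpG, hpGι⟩ := exists_model_proj (hQ := hQN) hmodel
  obtain ⟨-, ⟨hinj, hreal⟩, ⟨TG, hTG⟩, -⟩ := id hmodel
  have hVN : V ≤ normalizerIn S V := le_normalizerIn hVS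
  have hpGF : ∀ g, (pG g : MulAut V) ∈ F.autGroup V := fun g =>
    autGroup_mono' (normalizerSystem_sub hN) V (pG g).2
  let L₀ : Subgroup G :=
    { carrier := {g | ∀ y ∈ Y, aFn (pG g) y ∈ Y}
      one_mem' := fun y hy => by rw [map_one, aFn_one (Subgroup.mem_sup_left hy)]; exact hy
      mul_mem' := fun {a b} ha hb y hy => by
        rw [map_mul, aFn_mul _ _ (Subgroup.mem_sup_left hy)]
        exact ha _ (hb y hy)
      inv_mem' := fun {a} ha y hy => by
        have hf : Fn F Y (aFn (pG a)) := ((mem_autGroup_iff_fn hVS).1 (hpGF a)).mono le_sup_left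
        obtain ⟨x, hx, rfl⟩ := hf.mem_img.1 ((hf.img_eq_self ha).ge hy)
        rw [← aFn_mul _ _ (Subgroup.mem_sup_left hx), ← map_mul, inv_mul_cancel, map_one,
          aFn_one (Subgroup.mem_sup_left hx)]
        exact hx }
  have hNN : normalizerIn S Y ≤ normalizerIn S V := fun s hs => normalizer_le_sup hYS hs
  have hact_conj : ∀ (s : normalizerIn S V), ∀ v ∈ V, aFn (pG (ι s)) v = (s : Ω) * v * (s : Ω)⁻¹ :=
    fun s v hv => by rw [hpGι]; exact aFn_normalConj hQN s hv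
  have hmem : ∀ s : normalizerIn S Y, ι ⟨(s : Ω), hNN s.2⟩ ∈ L₀ := fun s y hy => by
    rw [hact_conj _ y (Subgroup.mem_sup_left hy)]
    exact (mem_normalizer_iff'.1 s.2.2).1 y hy
  let emb : normalizerIn S Y →* L₀ := (ι.comp (Subgroup.inclusion hNN)).codRestrict L₀ hmem
  have hembv : ∀ s, (emb s : G) = ι ⟨(s : Ω), hNN s.2⟩ := fun _ => rfl
  have hembinj : Function.Injective emb := fun a b h => Subtype.ext <| by
    have h1 := hinj (congrArg Subtype.val h)
    exact congrArg (fun z : normalizerIn S V => (z : Ω)) h1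
  haveI := finite_of_le_base (normalizerIn_le (S := S) (P := Y))
  -- the Sylow subgroup
  have hrp : IsPGroup p emb.range :=
    (hS.to_le normalizerIn_le).of_surjective emb.rangeRestrict emb.rangeRestrict_surjective
  obtain ⟨R, hR⟩ := hrp.exists_le_sylow
  have hRcard : Nat.card (R : Subgroup L₀) ≤ Nat.card emb.range := by
    obtain ⟨T', hT'⟩ := (R.2.map L₀.subtype).exists_le_sylow
    obtain ⟨a, ha⟩ := MulAction.exists_smul_eq G T' TG
    have haR : ∀ r ∈ (R : Subgroup L₀), ∃ n : normalizerIn S V, ι n = a * (r : G) * a⁻¹ := fun r hr => by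
      have h1 : MulAut.conj a (r : G) ∈ (TG : Subgroup G) := by
        rw [← ha]
        exact ⟨(r : G), hT' ⟨r, hr, rfl⟩, rfl⟩
      rw [hTG] at h1
      exact h1
    choose n hn using haR
    have haf : Fn F Y (aFn (pG a)) := ((mem_autGroup_iff_fn hVS).1 (hpGF a)).mono le_sup_left
    set Y' := img (aFn (pG a)) Y
    have hY'S := haf.img_le_base
    haveI := finite_of_le_base hY'S
    have hmemN : ∀ r hr, ((n r hr : normalizerIn S V) : Ω) ∈ normalizerIn S Y' := fun r hr => by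
      refine mem_normalizerIn.2 ⟨(n r hr).2.1, mem_normalizer_of_map_le fun y hy => ?_⟩
      obtain ⟨x, hx, rfl⟩ := haf.mem_img.1 hy
      have hxV : x ∈ V := Subgroup.mem_sup_left hx
      rw [← hact_conj _ _ (aFn_mem _ hxV), hn, ← aFn_mul _ _ hxV, ← map_mul,
        show a * (r : G) * a⁻¹ * a = a * (r : G) by group, map_mul, aFn_mul _ _ hxV]
      exact mem_img_of_mem (r.2 x hx)
    haveI := finite_of_le_base (normalizerIn_le (S := S) (P := Y'))
    refine (Nat.card_le_card_of_injective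
      (fun r : (R : Subgroup L₀) => (⟨_, hmemN r r.2⟩ : normalizerIn S Y')) fun r r' h => ?_).trans
      ((hYn.2 _ (isConj_of_fn haf)).trans_eq ?_)
    · have h1 : n r r.2 = n r' r'.2 := Subtype.ext (congrArg (fun z : normalizerIn S Y' => (z : Ω)) h)
      have h2 := congrArg ι h1
      rw [hn, hn] at h2
      exact Subtype.ext (Subtype.ext (mul_left_cancel (mul_right_cancel h2)))
    · exact Nat.card_congr (MonoidHom.ofInjective hembinj).toEquiv
  have hRe : (R : Subgroup L₀) = emb.range := (Subgroup.eq_of_le_of_card_ge hR hRcard).symm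
  have hker : ∀ g, pG g = 1 → ∃ z : normalizerIn S V, (z : Ω) ∈ V ∧ g = ι z := fun g hg => by
    obtain ⟨z, hz, e⟩ := model_proj_ker (hQ := hQN) hcN hmodel hpG hg
    exact ⟨z, (normalConj_eq_one hQN hcN hz).1, e⟩
  refine ⟨L₀, inferInstance, ⟨{
    fin := inferInstance
    emb := emb
    inj := hembinj
    syl := ⟨R, hRe⟩
    act := (N.autGroup V).subtype.comp (pG.comp L₀.subtype)
    act_mem := fun l => hpGF l
    act_Y := fun l y hy => l.2 y hy
    act_emb := fun s v hv => hact_conj ⟨(s : Ω), hNN s.2⟩ v hv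
    act_surj := fun h hh hhY => ?_
    act_ker := fun l hl => ?_
    rel := fun l v hv => ?_
    realize := fun l P hP hl => ?_
    realize_inv := fun P f hf hVP hP hfY => ?_ }⟩⟩
  · have hfN : Fn N V (autFn h) := (fn_normalizerSystem hN).2 ⟨hVN, fun x hx => hVN (autFn_mem h hx),
      autFn h, by rw [sup_idem]; exact (mem_autGroup_iff_fn hVS).1 hh, fun x _ => rfl, img_autFn h⟩
    obtain ⟨φ, hφ, hφe⟩ := id hfN
    obtain ⟨g, hg⟩ := (hreal _ hVN φ (N.le_of_mem hφ).2).1 hφ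
    have hgh : ∀ v ∈ V, aFn (pG g) v = autFn h v := fun v hv => by
      have h1 := hg ⟨v, hv⟩
      rw [eq_mul_inv_iff_mul_eq] at h1
      exact ((congrArg Subtype.val (hinj (mul_right_cancel (h1.trans (hpG g v hv))))).symm).trans (hφe ⟨v, hv⟩)
    refine ⟨⟨g, fun y hy => by rw [hgh y (Subgroup.mem_sup_left hy)]; exact hhY y hy⟩, mulAut_ext hgh⟩
  · obtain ⟨z, hzV, e⟩ := hker l (Subtype.ext hl)
    exact ⟨⟨(z : Ω), sup_le_normalizer hYS hzV⟩, hzV, Subtype.ext e⟩
  · have hu : aFn (pG (l : G)) v ∈ normalizerIn S Y := sup_le_normalizer hYS (aFn_mem _ hv)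
    have hvN : v ∈ normalizerIn S Y := sup_le_normalizer hYS hv
    have he : emb ⟨_, hu⟩ = l * emb ⟨v, hvN⟩ * l⁻¹ := Subtype.ext <|
      eq_mul_inv_iff_mul_eq.2 (hpG (l : G) v hv).symm
    exact ⟨cj_eq hembinj hvN he, hvN, ⟨_, hu⟩, he⟩
  · have hval : ∀ x (hx : x ∈ P), ∃ y : normalizerIn S Y, emb y = l * emb ⟨x, hP hx⟩ * l⁻¹ ∧
        cj emb l x = (y : Ω) := fun x hx => by
      obtain ⟨hxN, y, hy⟩ := hl x hx
      exact ⟨y, hy, cj_eq hembinj hxN hy⟩
    choose y hy hyv using hval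
    let φ : P →* Ω := MonoidHom.mk' (fun x => (y x x.2 : Ω)) fun a b => by
      rw [← Subgroup.coe_mul]
      refine congrArg Subtype.val (hembinj ?_)
      rw [map_mul, hy, hy, hy, show (⟨((a * b : P) : Ω), hP (a * b).2⟩ : normalizerIn S Y) =
        ⟨(a : Ω), hP a.2⟩ * ⟨(b : Ω), hP b.2⟩ from rfl, map_mul]
      group
    have hφ : φ ∈ N.Hom P := (hreal P (hP.trans hNN) φ fun x => hNN (y x x.2).2).2
      ⟨(l : G), fun x => congrArg Subtype.val (hy x x.2)⟩
    exact ⟨φ, normalizerSystem_sub hN P hφ, fun x => (hyv x x.2).symm⟩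
  · have hPV : P ≤ normalizerIn S V := hP.trans hNN
    have hfV : img f V = V := (hf.mono hVP).img_eq_self fun x hx => by
      have h1 := mem_img_of_mem (f := f) hx
      rw [(hf.mono hVP).img_sup, hfY] at h1
      exact sup_le_sup le_rfl (img_le fun c hc =>
        hf.map_centralizer (le_sup_left.trans hVP) hfY (hVP (Subgroup.mem_sup_right hc)) hc) h1
    have hfm : ∀ x ∈ P, f x ∈ normalizerIn S Y := fun x hx =>
      hf.map_normalizer (le_sup_left.trans hVP) hfY hx (hP hx).2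
    have hfN : Fn N P f := (fn_normalizerSystem hN).2 ⟨hPV, fun x hx => hNN (hfm x hx), f,
      by rw [sup_eq_left.2 hVP]; exact hf, fun x _ => rfl, hfV⟩
    obtain ⟨φ, hφ, hφe⟩ := id hfN
    obtain ⟨g, hg⟩ := (hreal _ hPV φ (N.le_of_mem hφ).2).1 hφ
    have hgv : ∀ v ∈ V, aFn (pG g) v = f v := fun v hv => by
      have h1 := hg ⟨v, hVP hv⟩
      rw [eq_mul_inv_iff_mul_eq] at h1
      exact ((congrArg Subtype.val (hinj (mul_right_cancel (h1.trans (hpG g v hv))))).symm).trans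
        (hφe ⟨v, hVP hv⟩)
    refine ⟨⟨g, fun y hy => by
      rw [hgv y (Subgroup.mem_sup_left hy)]; exact hfY.le (mem_img_of_mem hy)⟩, fun x hx =>
      ⟨hP hx, ⟨f x, hfm x hx⟩, Subtype.ext ?_, rfl⟩⟩
    show ι ⟨f x, _⟩ = g * ι ⟨x, _⟩ * g⁻¹
    rw [← hg ⟨x, hx⟩]
    exact congrArg ι (Subtype.ext (hφe ⟨x, hx⟩).symm)

end CfsgLib.Fsys.Meet
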