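import Cfsg.Agent.Lib.FusionSystem.Meet.Local
import Cfsg.Agent.Lib.Fusion.Alperin

/-! The generators at a nice subgroup form a group with the expected Sylow subgroup. -/

set_option autoImplicit false

namespace CfsgLib.Fsys.Meet

open Cfsg Cfsg.FusionSystem CfsgLib.Fsys.WNR
open Cfsg.FusionSystem (centralizerIn normalizerIn)
open scoped Pointwise

universe u

variable {Ω : Type u} [Group Ω] {S T T₁ : Subgroup Ω} {F : FusionSystem S} {D : FusionSystem T}
  {D₁ : FusionSystem T₁} {Y Q : Subgroup Ω} {p : ℕ} [Fact p.Prime] [Finite S] {L : Type u} [Group L]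

/-- Elements moving `C_S(Y)` within `T ⊓ T₁` and restricting into both subsystems. -/
def InX (F : FusionSystem S) (D : FusionSystem T) (D₁ : FusionSystem T₁) (lg : LocalGroup p F Y L) (l : L) : Prop :=
  (∀ c ∈ centralizerIn S Y, c⁻¹ * autFn (lg.act l) c ∈ T ⊓ T₁) ∧
    Fn D (Y ⊔ centralizerIn T Y) (autFn (lg.act l)) ∧ Fn D₁ (Y ⊔ centralizerIn T₁ Y) (autFn (lg.act l))

namespace LocalGroup

variable (lg : LocalGroup p F Y L)

omit [Fact p.Prime] in
theorem sup_le_base (hY : Y ≤ S) : Y ⊔ centralizerIn S Y ≤ S := sup_le hY centralizerIn_le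

theorem fn_act (hY : Y ≤ S) (l : L) : Fn F (Y ⊔ centralizerIn S Y) (autFn (lg.act l)) :=
  (mem_autGroup_iff_fn (sup_le hY centralizerIn_le)).1 (lg.act_mem l)

theorem img_act (hY : Y ≤ S) (l : L) : img (autFn (lg.act l)) Y = Y := by
  haveI := finite_of_le_base hY
  exact ((lg.fn_act hY l).mono le_sup_left).img_eq_self (lg.act_Y l)

theorem act_C (hY : Y ≤ S) (l : L) {c : Ω} (hc : c ∈ centralizerIn S Y) :
    autFn (lg.act l) c ∈ centralizerIn S Y :=
  (lg.fn_act hY l).map_centralizer le_sup_left (lg.img_act hY l) (Subgroup.mem_sup_right hc) hc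

theorem act_sub (hY : Y ≤ S) (l : L) {U : Subgroup Ω} (hU : F.StronglyClosed U) {x : Ω}
    (hx : x ∈ Y ⊔ centralizerIn U Y) : autFn (lg.act l) x ∈ Y ⊔ centralizerIn U Y :=
  (lift_img hU (lg.fn_act hY l) (lg.img_act hY l)).le (mem_img_of_mem hx)

end LocalGroup

variable (st : Setup F D D₁ p) (hY : Y ≤ T ⊓ T₁) (lg : LocalGroup p F Y L)
include st hY

omit [Fact p.Prime] in
theorem base_le : Y ≤ S := hY.trans st.sc.1

theorem inX_mul {a b : L} (ha : InX F D D₁ lg a) (hb : InX F D D₁ lg b) : InX F D D₁ lg (a * b) := by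
  have hYS := base_le st hY
  refine ⟨fun c hc => ?_, ?_, ?_⟩
  · have hcV : c ∈ Y ⊔ centralizerIn S Y := Subgroup.mem_sup_right hc
    have hd : c⁻¹ * autFn (lg.act b) c ∈ Y ⊔ centralizerIn S Y :=
      Subgroup.mul_mem _ (Subgroup.inv_mem _ hcV) (autFn_mem _ hcV)
    rw [map_mul, autFn_mul _ _ hcV, ← mul_inv_cancel_left c (autFn (lg.act b) c),
      (lg.fn_act hYS a).map_mul hcV hd, ← mul_assoc]
    exact Subgroup.mul_mem _ (ha.1 c hc) (sc_apply st.sc (lg.fn_act hYS a) hd (hb.1 c hc))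
  · exact (hb.2.1.comp ha.2.1 fun x hx => lg.act_sub hYS b st.wn.2.2.2.1 hx).congr fun x hx => by
      rw [map_mul, autFn_mul _ _ (sub_le_sup st.wn.2.2.2.1.1 hx)]
      rfl
  · exact (hb.2.2.comp ha.2.2 fun x hx => lg.act_sub hYS b st.wn₁.2.2.2.1 hx).congr fun x hx => by
      rw [map_mul, autFn_mul _ _ (sub_le_sup st.wn₁.2.2.2.1.1 hx)]
      rfl

theorem inX_one : InX F D D₁ lg 1 := by
  have hYS := base_le st hY
  refine ⟨fun c hc => ?_, ?_, ?_⟩
  · rw [map_one, autFn_id (Subgroup.mem_sup_right hc), inv_mul_cancel]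
    exact Subgroup.one_mem _
  · exact (fn_id (sup_le (hY.trans inf_le_left) inf_le_left)).congr fun x hx => by
      rw [map_one, autFn_id (sub_le_sup st.wn.2.2.2.1.1 hx)]
      rfl
  · exact (fn_id (sup_le (hY.trans inf_le_right) inf_le_left)).congr fun x hx => by
      rw [map_one, autFn_id (sub_le_sup st.wn₁.2.2.2.1.1 hx)]
      rfl

/-- The subgroup of elements with compatible action. -/
def xSub : Subgroup L where
  carrier := {l | InX F D D₁ lg l}
  one_mem' := inX_one st hY lg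
  mul_mem' := inX_mul st hY lg
  inv_mem' := fun {a} ha => by
    haveI := lg.fin
    have hpow : ∀ j : ℕ, InX F D D₁ lg (a ^ j) := fun j => by
      induction j with
      | zero => rw [pow_zero]; exact inX_one st hY lg
      | succ j ih => rw [pow_succ]; exact inX_mul st hY lg ih ha
    have e : a⁻¹ = a ^ (orderOf a - 1) := inv_eq_of_mul_eq_one_right <| by
      rw [← pow_succ', Nat.sub_add_cancel (orderOf_pos a), pow_orderOf_eq_one]
    show InX F D D₁ lg a⁻¹
    rw [e]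
    exact hpow _

theorem emb_mem_xSub {w : normalizerIn S Y} (hw : (w : Ω) ∈ T ⊓ T₁) : lg.emb w ∈ xSub st hY lg := by
  have hYS := base_le st hY
  refine ⟨fun c hc => ?_, ?_, ?_⟩
  · rw [lg.act_emb w c (Subgroup.mem_sup_right hc),
      show c⁻¹ * ((w : Ω) * c * (w : Ω)⁻¹) = c⁻¹ * (w : Ω) * c⁻¹⁻¹ * (w : Ω)⁻¹ by group]
    exact Subgroup.mul_mem _ (sc_conj st.sc (S.inv_mem (centralizerIn_le hc)) hw) (Subgroup.inv_mem _ hw)
  · exact (fn_conj (sup_le (hY.trans inf_le_left) inf_le_left) hw.1).congr fun x hx =>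
      (lg.act_emb w x (sub_le_sup st.wn.2.2.2.1.1 hx)).symm
  · exact (fn_conj (sup_le (hY.trans inf_le_right) inf_le_left) hw.2).congr fun x hx =>
      (lg.act_emb w x (sub_le_sup st.wn₁.2.2.2.1.1 hx)).symm

theorem xSub_normal : (xSub st hY lg).Normal := ⟨fun x hx k => by
  have hYS := base_le st hY
  set g := autFn (lg.act k) with hg
  have hgf := lg.fn_act hYS k
  have hgC : img g (centralizerIn S Y) = centralizerIn S (img g Y) := by
    rw [lg.img_act hYS k]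
    exact (hgf.mono le_sup_right).img_eq_self fun c hc => lg.act_C hYS k hc
  have hval : ∀ v ∈ Y ⊔ centralizerIn S Y, autFn (lg.act (k * x * k⁻¹)) (g v) = g (autFn (lg.act x) v) :=
    fun v hv => by
      rw [map_mul, map_mul, map_inv, autFn_mul _ _ (autFn_mem _ hv), hg, autFn_inv_apply _ hv, autFn_mul _ _ hv]
  obtain ⟨hxd, hxD, hxD₁⟩ := hx
  refine ⟨fun c hc => ?_, ?_, ?_⟩
  · obtain ⟨d, hd, rfl⟩ := (hgf.mono le_sup_right).mem_img.1
      ((hgC.trans (by rw [lg.img_act hYS k])).ge hc)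
    have hdV : d ∈ Y ⊔ centralizerIn S Y := Subgroup.mem_sup_right hd
    rw [hval d hdV, ← hgf.map_inv hdV, ← hgf.map_mul (Subgroup.inv_mem _ hdV) (autFn_mem _ hdV)]
    exact sc_apply st.sc hgf (Subgroup.mul_mem _ (Subgroup.inv_mem _ hdV) (autFn_mem _ hdV)) (hxd d hd)
  · have := transport_part (h' := autFn (lg.act (k * x * k⁻¹))) st.wn.2.2 (hY.trans inf_le_left) hgf hgC hxD
      (lift_img st.wn.2.2.2.1 (lg.fn_act hYS x) (lg.img_act hYS x))
      fun v hv => hval v (sub_le_sup st.wn.2.2.2.1.1 hv)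
    rwa [lg.img_act hYS k] at this
  · have := transport_part (h' := autFn (lg.act (k * x * k⁻¹))) st.wn₁.2.2 (hY.trans inf_le_right) hgf hgC hxD₁
      (lift_img st.wn₁.2.2.2.1 (lg.fn_act hYS x) (lg.img_act hYS x))
      fun v hv => hval v (sub_le_sup st.wn₁.2.2.2.1.1 hv)
    rwa [lg.img_act hYS k] at this⟩

omit hY in
theorem cj_sc {U : Subgroup Ω} (hU : F.StronglyClosed U) {l : L} {s u : normalizerIn S Y}
    (h : lg.emb u = l * lg.emb s * l⁻¹) (hs : (s : Ω) ∈ U) : (u : Ω) ∈ U := by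
  have hle : Subgroup.zpowers (s : Ω) ≤ normalizerIn S Y := Subgroup.zpowers_le.2 s.2
  have hf := lg.realize l _ hle fun x hx => by
    obtain ⟨j, rfl⟩ := Subgroup.mem_zpowers_iff.1 hx
    refine ⟨hle hx, u ^ j, ?_⟩
    rw [map_zpow, h, conj_zpow, ← map_zpow]
    rfl
  have := sc_apply hU hf (Subgroup.mem_zpowers _) hs
  rwa [cj_eq lg.inj s.2 h] at this

/-- Fusion inside the compatible group does not move the part outside an invariant subsystem. -/
theorem focal_step {U : Subgroup Ω} {E : FusionSystem U} (hE : E.IsWeaklyNormalIn F p) (hU : T ⊓ T₁ ≤ U)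
    (hYn : F.IsFullyNormalized Y) {x : L} (hx : x ∈ xSub st hY lg) {s s' : normalizerIn S Y}
    (hs : Fn E (Y ⊔ centralizerIn U Y) (autFn (lg.act (lg.emb s)))) (h : lg.emb s' = x * lg.emb s * x⁻¹) :
    (s' : Ω) * (s : Ω)⁻¹ ∈ U := by
  have hYS := base_le st hY
  have hUsc := hE.2.2.2.1
  have hYU := hY.trans hU
  haveI := finite_of_le_base hUsc.1
  haveI := finite_of_le_base hYS
  have hsY : conjAut Y s.2.2 ∈ E.autGroup Y := (mem_autGroup_iff_fn hYU).2
    ((hs.mono le_sup_left).congr fun y hy => by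
      rw [lg.act_emb s y (Subgroup.mem_sup_left hy), autFn_coe _ ⟨y, hy⟩, conjAut_coe])
  obtain ⟨-, R, hR⟩ := (fullyNormalized_good (st.isp.to_le hUsc.1) hE.1
    (fullyNormalized_sub st.isp st.sat hUsc hE.2.2.1 hYU hYn)).1
  obtain ⟨t, htU, hte⟩ : ∃ t ∈ U, ∀ y : Y, ((conjAut Y s.2.2 y : Y) : Ω) = t * (y : Ω) * t⁻¹ := by
    let R' : Subgroup (E.autGroup Y) := (autInducedBy S Y).subgroupOf (E.autGroup Y)
    have hR'p : IsPGroup p R' :=
      (isPGroup_autInducedBy st.isp).comap_of_injective _ (Subgroup.subtype_injective _)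
    have hle : (R : Subgroup (E.autGroup Y)) ≤ R' := by
      rw [hR]
      intro a ha
      obtain ⟨g, hg, hga⟩ := mem_autInducedBy.1 ha
      exact mem_autInducedBy.2 ⟨g, hUsc.1 hg, hga⟩
    have hmem : (⟨conjAut Y s.2.2, hsY⟩ : E.autGroup Y) ∈ (R : Subgroup (E.autGroup Y)) := by
      rw [← R.3 hR'p hle]
      exact conjAut_mem_autInducedBy s.2.2 s.2.1
    rw [hR] at hmem
    exact mem_autInducedBy.1 hmem
  have htN : t ∈ normalizerIn S Y := ⟨hUsc.1 htU, mem_normalizer_of_autEq hte⟩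
  have hc : t⁻¹ * (s : Ω) ∈ centralizerIn S Y := mem_centralizerIn.2
    ⟨S.mul_mem (S.inv_mem htN.1) s.2.1, fun y hy => by
      have h2 : t⁻¹ * (s : Ω) * y * (t⁻¹ * (s : Ω))⁻¹ = y := by
        rw [show t⁻¹ * (s : Ω) * y * (t⁻¹ * (s : Ω))⁻¹ = t⁻¹ * ((s : Ω) * y * (s : Ω)⁻¹) * t by group,
          show (s : Ω) * y * (s : Ω)⁻¹ = t * y * t⁻¹ from (conjAut_coe _ ⟨y, hy⟩).symm.trans (hte ⟨y, hy⟩)]
        group
      conv_lhs => rw [← h2]
      group⟩
  set u := t⁻¹ * (s : Ω) with hu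
  have huV : u ∈ Y ⊔ centralizerIn S Y := Subgroup.mem_sup_right hc
  obtain ⟨huval, huN, u', hu'⟩ := lg.rel x u huV
  rw [cj_eq lg.inj huN hu'] at huval
  have hst : s = ⟨t, htN⟩ * ⟨u, huN⟩ := Subtype.ext (show (s : Ω) = t * u by rw [hu, mul_inv_cancel_left])
  have ht' : lg.emb (s' * u'⁻¹) = x * lg.emb ⟨t, htN⟩ * x⁻¹ := by
    rw [map_mul, map_inv, h, hu', hst, map_mul]
    group
  have h1 : (s' : Ω) * (u' : Ω)⁻¹ ∈ U := cj_sc st lg hUsc ht' htU
  have h2 : u⁻¹ * (u' : Ω) ∈ U := hU (huval ▸ hx.1 u hc)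
  rw [show (s' : Ω) * (s : Ω)⁻¹ =
    ((s' : Ω) * (u' : Ω)⁻¹) * (u * (u⁻¹ * (u' : Ω)) * u⁻¹) * t⁻¹ by rw [hu]; group]
  exact U.mul_mem (U.mul_mem h1 (sc_conj hUsc (centralizerIn_le hc) h2)) (U.inv_mem htU)

/-- The image of the elements of `W`. -/
def wRange (W : Subgroup Ω) (lg : LocalGroup p F Y L) : Subgroup L :=
  (W.subgroupOf (normalizerIn S Y)).map lg.emb

/-- The group below `N_W(Y)` with fusion inside the meet. -/
def mSub : Subgroup L := (pResidual p (xSub st hY lg)).map (xSub st hY lg).subtype ⊔ wRange (T ⊓ T₁) lg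

theorem wRange_le : wRange (T ⊓ T₁) lg ≤ xSub st hY lg := by
  rintro _ ⟨w, hw, rfl⟩
  exact emb_mem_xSub st hY lg hw

theorem mSub_le : mSub st hY lg ≤ xSub st hY lg := sup_le (Subgroup.map_subtype_le _) (wRange_le st hY lg)

theorem residual_conj {a : L} (ha : a ∈ (pResidual p (xSub st hY lg)).map (xSub st hY lg).subtype) (k : L) :
    k * a * k⁻¹ ∈ (pResidual p (xSub st hY lg)).map (xSub st hY lg).subtype := by
  haveI := xSub_normal st hY lg
  obtain ⟨b, hb, rfl⟩ := ha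
  refine ⟨MulAut.conjNormal k b, ?_, MulAut.conjNormal_apply k b⟩
  exact CfsgLib.Fusion.Basic.map_pResidual_le (MulAut.conjNormal k).toMonoidHom ⟨b, hb, rfl⟩

theorem mSub_normal : (mSub st hY lg).Normal := by
  haveI := lg.fin
  haveI := xSub_normal st hY lg
  obtain ⟨R, hR⟩ := lg.syl
  set X := xSub st hY lg with hX
  set O := (pResidual p X).map X.subtype with hO
  have hiX : ¬ p ∣ ((R : Subgroup L) ⊓ X).relIndex X := CfsgLib.Fusion.Basic.not_dvd_relIndex_of_normal R X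
  let PX : Sylow p X := CfsgLib.Fusion.Basic.sylowSubgroupOf (inf_le_right : (R : Subgroup L) ⊓ X ≤ X)
    (R.2.to_le inf_le_left) hiX
  have hmap : (PX : Subgroup X).map X.subtype = (R : Subgroup L) ⊓ X :=
    CfsgLib.Fusion.Basic.map_sylowSubgroupOf _ _ hiX
  have key : ∀ w ∈ wRange (T ⊓ T₁) lg, ∀ n : L, n * w * n⁻¹ ∈ (R : Subgroup L) → n * w * n⁻¹ ∈ wRange (T ⊓ T₁) lg := by
    rintro _ ⟨w, hw, rfl⟩ n hn
    rw [hR] at hn
    obtain ⟨u, hu⟩ := hn
    exact ⟨u, cj_sc st lg st.sc hu hw, hu⟩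
  refine ⟨fun m hm k => ?_⟩
  have hw : ∀ w ∈ wRange (T ⊓ T₁) lg, ∀ k : L, k * w * k⁻¹ ∈ mSub st hY lg := by
    intro w hw k
    have htop : k ∈ ((Subgroup.normalizer (((PX : Subgroup X).map X.subtype : Subgroup L) : Set L) ⊔ X :
        Subgroup L) : Set L) := by
      rw [Sylow.normalizer_sup_eq_top]
      exact Subgroup.mem_top k
    rw [Subgroup.mul_normal] at htop
    obtain ⟨n, hn, x, hx, rfl⟩ := htop
    obtain ⟨o, ho, r, hr, hor⟩ := CfsgLib.Fusion.Basic.exists_eq_pResidual_mul PX ⟨x, hx⟩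
    have hr' : (r : L) ∈ (R : Subgroup L) ⊓ X := hmap.le ⟨r, hr, rfl⟩
    have hwR : w ∈ (R : Subgroup L) ⊓ X := ⟨by
      obtain ⟨w, -, rfl⟩ := hw
      exact hR.ge ⟨w, rfl⟩, wRange_le st hY lg hw⟩
    have h1 : (r : L) * w * (r : L)⁻¹ ∈ wRange (T ⊓ T₁) lg := key w hw _
      (Subgroup.mul_mem _ (Subgroup.mul_mem _ hr'.1 hwR.1) (Subgroup.inv_mem _ hr'.1))
    rw [hmap] at hn
    have h2 : n * ((r : L) * w * (r : L)⁻¹) * n⁻¹ ∈ wRange (T ⊓ T₁) lg := key _ h1 n
      ((Subgroup.mem_normalizer_iff.1 hn _).1 ⟨by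
        obtain ⟨v, -, hv⟩ := h1
        exact hv ▸ hR.ge ⟨v, rfl⟩, wRange_le st hY lg h1⟩).1
    have hxe : x = (o : L) * (r : L) := congrArg Subtype.val hor
    have hnon : n * (o : L) * n⁻¹ ∈ O := residual_conj st hY lg ⟨o, ho, rfl⟩ n
    rw [show n * x * w * (n * x)⁻¹ = (n * (o : L) * n⁻¹) * (n * ((r : L) * w * (r : L)⁻¹) * n⁻¹) *
      (n * (o : L) * n⁻¹)⁻¹ by rw [hxe]; group]
    exact Subgroup.mul_mem _ (Subgroup.mul_mem _ (Subgroup.mem_sup_left hnon) (Subgroup.mem_sup_right h2))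
      (Subgroup.inv_mem _ (Subgroup.mem_sup_left hnon))
  have hle : mSub st hY lg ≤ (mSub st hY lg).comap (MulAut.conj k).toMonoidHom :=
    sup_le (fun a ha => Subgroup.mem_sup_left (residual_conj st hY lg ha k)) fun w hw' => hw w hw' k
  exact hle hm

theorem mSub_inf_range (hYn : F.IsFullyNormalized Y) : mSub st hY lg ⊓ lg.emb.range ≤ wRange (T ⊓ T₁) lg := by
  haveI := lg.fin
  haveI := xSub_normal st hY lg
  obtain ⟨R, hR⟩ := lg.syl
  set X := xSub st hY lg with hX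
  set O := (pResidual p X).map X.subtype with hO
  have hiX : ¬ p ∣ ((R : Subgroup L) ⊓ X).relIndex X := CfsgLib.Fusion.Basic.not_dvd_relIndex_of_normal R X
  let PX : Sylow p X := CfsgLib.Fusion.Basic.sylowSubgroupOf (inf_le_right : (R : Subgroup L) ⊓ X ≤ X)
    (R.2.to_le inf_le_left) hiX
  have hPX : ∀ a : X, a ∈ (PX : Subgroup X) ↔ (a : L) ∈ lg.emb.range := fun a => by
    rw [CfsgLib.Fusion.Basic.coe_sylowSubgroupOf, Subgroup.mem_subgroupOf, ← hR]
    exact ⟨fun h => h.1, fun h => ⟨h, a.2⟩⟩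
  have hfoc : Subgroup.focalSubgroup (PX : Subgroup X) ≤ (wRange (T ⊓ T₁) lg).comap X.subtype := by
    rw [Subgroup.focalSubgroup_def, Subgroup.closure_le]
    rintro _ ⟨hg, a, ha, v, rfl⟩
    obtain ⟨s, hs⟩ := (hPX a).1 ha
    obtain ⟨z, hz⟩ := (hPX _).1 hg
    have hz' : lg.emb z = (a : L) * (v : L) * (a : L)⁻¹ * (v : L)⁻¹ := hz
    have hs' : lg.emb (z⁻¹ * s) = (v : L) * lg.emb s * (v : L)⁻¹ := by
      rw [map_mul, map_inv, hz', hs]
      group
    have hsX : lg.emb s ∈ xSub st hY lg := hs ▸ a.2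
    have h1 := focal_step st hY lg st.wn inf_le_left hYn v.2 hsX.2.1 hs'
    have h2 := focal_step st hY lg st.wn₁ inf_le_right hYn v.2 hsX.2.2 hs'
    simp only [Subgroup.coe_mul, Subgroup.coe_inv, mul_inv_cancel_right, inv_mem_iff] at h1 h2
    exact ⟨z, ⟨h1, h2⟩, hz⟩
  have hcop : ∀ o ∈ pResidual p X, Nat.Coprime (orderOf (Abelianization.of o)) p := fun o ho => by
    let C : Subgroup (Abelianization X) :=
      { carrier := {a | Nat.Coprime (orderOf a) p}
        one_mem' := by simp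
        mul_mem' := fun {a b} ha hb =>
          Nat.Coprime.coprime_dvd_left ((Commute.all a b).orderOf_mul_dvd_mul_orderOf)
            (Nat.Coprime.mul_left ha hb)
        inv_mem' := fun {a} ha => by simpa using ha }
    have hle : pResidual p X ≤ C.comap Abelianization.of :=
      (Subgroup.closure_le _).2 fun a ha => Nat.Coprime.coprime_dvd_left (orderOf_map_dvd _ a) ha
    exact hle ho
  rintro m ⟨hm, hmR⟩
  have hnorm : ((mSub st hY lg : Subgroup L) : Set L) = (O : Set L) * (wRange (T ⊓ T₁) lg : Set L) :=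
    Subgroup.coe_mul_of_right_le_normalizer_left _ _ fun w _ => Subgroup.mem_normalizer_iff.2 fun a =>
      ⟨fun ha => residual_conj st hY lg ha w, fun ha => by
        have := residual_conj st hY lg ha w⁻¹
        simpa [mul_assoc] using this⟩
  obtain ⟨_, ⟨o, ho, rfl⟩, w, hw, rfl⟩ := hnorm.le hm
  refine Subgroup.mul_mem _ ?_ hw
  have hoR : (o : L) ∈ lg.emb.range := by
    obtain ⟨w', -, rfl⟩ := hw
    simpa using Subgroup.mul_mem _ hmR (Subgroup.inv_mem _ ⟨w', rfl⟩)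
  have hop : o ∈ (PX : Subgroup X) := (hPX o).2 hoR
  have hcomm : o ∈ _root_.commutator X := by
    rw [← Abelianization.ker_of, MonoidHom.mem_ker]
    obtain ⟨k, hk⟩ := PX.2 ⟨o, hop⟩
    have hk' : (Abelianization.of o) ^ p ^ k = 1 := by
      rw [← map_pow, show o ^ p ^ k = 1 from congrArg Subtype.val hk, map_one]
    exact orderOf_eq_one_iff.1
      (Nat.eq_one_of_dvd_coprimes ((hcop o ho).pow_right k) dvd_rfl (orderOf_dvd_of_pow_eq_one hk'))
  have h1 : o ∈ _root_.commutator X ⊓ (PX : Subgroup X) := ⟨hcomm, hop⟩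
  rw [Subgroup.commutator_inf_eq_focalSubgroup PX] at h1
  exact hfoc h1

theorem mSub_sylow (hYn : F.IsFullyNormalized Y) :
    ¬ p ∣ (wRange (T ⊓ T₁) lg).relIndex (mSub st hY lg) := by
  haveI := lg.fin
  haveI := mSub_normal st hY lg
  obtain ⟨R, hR⟩ := lg.syl
  have e : (R : Subgroup L) ⊓ mSub st hY lg = wRange (T ⊓ T₁) lg := by
    refine le_antisymm (fun m hm => mSub_inf_range st hY lg hYn ⟨hm.2, hR.le hm.1⟩)
      (le_inf ?_ le_sup_right)
    rintro _ ⟨w, -, rfl⟩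
    exact hR.ge ⟨w, rfl⟩
  rw [← e]
  exact CfsgLib.Fusion.Basic.not_dvd_relIndex_of_normal R _

end CfsgLib.Fsys.Meet
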