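import Cfsg.Agent.Lib.FusionSystem.Meet.Levels

/-! Representatives, and saturation of the meet outside the centric subgroups. -/

set_option autoImplicit false

namespace CfsgLib.Fsys.Meet

open Cfsg Cfsg.FusionSystem CfsgLib.Fsys.WNR
open Cfsg.FusionSystem (centralizerIn normalizerIn)

universe u

variable {Ω : Type u} [Group Ω] {S T T₁ : Subgroup Ω} {F : FusionSystem S} {D : FusionSystem T}
  {D₁ : FusionSystem T₁} {P Q R X : Subgroup Ω} {p : ℕ} [Fact p.Prime] [Finite S] (st : Setup F D D₁ p)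
include st

theorem stronglyClosed_base : F.StronglyClosed S :=
  stronglyClosed_iff_fn.2 ⟨le_rfl, fun _ _ hf _ hx _ => hf.mem hx⟩

/-- Every map of `F` below `T ⊓ T₁` decomposes. -/
theorem dec_self {f : Ω → Ω} (hP : P ≤ T ⊓ T₁) (hf : Fn F P f) : Dec st F P f := by
  refine frattini st (G := F) st.sat (fun _ _ h => h) (stronglyClosed_base st) st.sc.1
    (fun _ hY => kGen_le_autGroup st hY) (fun R hR => ?_) hP hf
  obtain ⟨Q, hRQ, hQ⟩ := exists_nice (p := p) st.isp st.sat (hR.trans st.sc.1)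
  obtain ⟨g, hg, hgi⟩ := isConj_iff.1 hRQ
  refine ⟨Q, g, hg, hgi, rep_of_aut st (stronglyClosed_base st) st.sc.1
    (hgi ▸ img_le fun x hx => sc_apply st.sc hg hx (hR hx)) (one_mem _) ?_ hQ⟩
  exact (img_congr (g := id) fun x hx => autFn_id (P := S) (hgi ▸ hg.img_le_base <| hx)).trans (img_id Q)

/-- Every subgroup is carried by the meet to one that an automorphism of the base makes nice. -/
theorem exists_rep (hX : X ≤ T ⊓ T₁) :
    ∃ Q, (meetSys st).IsConj X Q ∧ ∃ α ∈ F.autGroup (T ⊓ T₁), Nice F (img (autFn α) Q) := by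
  obtain ⟨Q₀, hXQ, hQ₀⟩ := exists_nice (p := p) st.isp st.sat (hX.trans st.sc.1)
  obtain ⟨f, hf, hfi⟩ := isConj_iff.1 hXQ
  obtain ⟨α, hα, e, he, hfe⟩ := dec_self st hX hf
  refine ⟨img e X, isConj_of_fn he, α, hα, ?_⟩
  rwa [← he.img_comp, img_congr (f := autFn α ∘ e) (g := f) fun x hx => (hfe x hx).symm, hfi]

theorem wcentric_top : WCentric F (T ⊓ T₁) (T ⊓ T₁) := by
  refine ⟨le_rfl, fun Z hZ => ?_⟩
  obtain ⟨f, hf, hfi⟩ := isConj_iff.1 hZ
  obtain rfl : Z = T ⊓ T₁ := eq_of_le_of_card st.sc.1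
    (hfi ▸ img_le fun x hx => sc_apply st.sc hf hx hx) (isConj_card hZ).ge
  exact inf_le_left

theorem rep_of_nice (hQ : Q ≤ T ⊓ T₁) {α : MulAut ↥(T ⊓ T₁)} (hα : α ∈ F.autGroup (T ⊓ T₁))
    (hn : Nice F (img (autFn α) Q)) : Rep p F D D₁ (T ⊓ T₁) Q :=
  rep_of_aut st st.sc le_rfl hQ hα rfl hn

theorem meet_fullyNormalized (hQ : Rep p F D D₁ (T ⊓ T₁) Q) : (meetSys st).IsFullyNormalized Q := by
  refine ⟨hQ.le, fun R hR => hQ.norm R ?_⟩
  obtain ⟨f, hf, hfi⟩ := isConj_iff.1 hR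
  exact isConj_iff.2 ⟨f, hf.of_subsystem (meetSys_sub st), hfi⟩

/-- The extension property at a representative. -/
theorem kGen_extend_rep (hQ : WCentric F (T ⊓ T₁) Q) {α : MulAut ↥(T ⊓ T₁)}
    (hα : α ∈ F.autGroup (T ⊓ T₁)) (hn : Nice F (img (autFn α) Q)) {k : MulAut Q}
    (hk : k ∈ kGen p F D D₁ Q) (hQP : Q ≤ P) (hP : P ≤ normalizerIn (T ⊓ T₁) Q)
    (hc : ∀ x ∈ P, ∃ w ∈ T ⊓ T₁, ∀ y ∈ Q, autFn k (x * y * x⁻¹) = w * autFn k y * w⁻¹) :
    ∃ g, Fn (meetSys st) P g ∧ ∀ y ∈ Q, g y = autFn k y := by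
  haveI := finite_base st
  have hαf : Fn F (T ⊓ T₁) (autFn α) := (mem_autGroup_iff_fn st.sc.1).1 hα
  have hPW : P ≤ T ⊓ T₁ := hP.trans inf_le_left
  obtain ⟨k₀, hk₀, hk₀e⟩ := exists_congr (hαf.mono hQ.1) rfl hk
  obtain ⟨g₀, hg₀, hg₀e⟩ := kGen_extend st (hQ.conj st.sc (isConj_of_fn (hαf.mono hQ.1))) hn hk₀
    (img_mono (f := autFn α) hQP)
    (img_le fun x hx => ⟨autFn_mem α (hPW hx), (hαf.map_normalizer hQ.1 rfl (hPW hx) (hP hx).2).2⟩)
    fun x₀ hx₀ => by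
      obtain ⟨x, hx, rfl⟩ := (hαf.mono hPW).mem_img.1 hx₀
      obtain ⟨w, hw, hwe⟩ := hc x hx
      refine ⟨autFn α w, autFn_mem α hw, fun y₀ hy₀ => ?_⟩
      obtain ⟨y, hy, rfl⟩ := (hαf.mono hQ.1).mem_img.1 hy₀
      rw [← hαf.map_conj (hPW hx) (hQ.1 hy),
        hk₀e _ ((mem_normalizer_iff'.1 (hP hx).2).1 y hy), hk₀e y hy, hwe y hy,
        hαf.map_conj hw (hQ.1 (autFn_mem k hy))]
  obtain ⟨χ, hχ, hχe⟩ := meetSys_transform st (inv_mem hα) hg₀
  have hi : img (autFn α⁻¹) (img (autFn α) P) = P := by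
    rw [← (hαf.mono hPW).img_comp]
    exact (img_congr (g := id) fun x hx => autFn_inv_apply α (hPW hx)).trans (img_id P)
  rw [hi] at hχ
  refine ⟨χ, hχ, fun y hy => ?_⟩
  have h := hχe _ (mem_img_of_mem (hQP hy))
  rw [autFn_inv_apply α (hQ.1 hy), hg₀e _ (mem_img_of_mem hy), hk₀e y hy,
    autFn_inv_apply α (hQ.1 (autFn_mem k hy))] at h
  exact h

/-- The automizer of the base is the generated group. -/
theorem top_automizer {a : MulAut ↥(T ⊓ T₁)} (ha : a ∈ (meetSys st).autGroup (T ⊓ T₁)) :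
    a ∈ kGen p F D D₁ (T ⊓ T₁) := by
  obtain ⟨k, hk, b, hb, hab⟩ := dec_level st ((mem_autGroup_iff_fn le_rfl).1 ha) le_rfl (wcentric_top st) rfl
  haveI := finite_base st
  obtain ⟨φ, ⟨-, w, hw, hwe⟩, hφb⟩ := upSys_le st (M := innerFusionSystem (T ⊓ T₁))
    (fun Y hY hlt => absurd (Subgroup.card_le_of_le hY.1) (Nat.not_le.2 hlt)) hb
  have hn : w ∈ Subgroup.normalizer ((T ⊓ T₁ : Subgroup Ω) : Set Ω) := Subgroup.le_normalizer hw
  have e : a = conjAut (T ⊓ T₁) hn * k := mulAut_ext fun x hx => by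
    rw [hab x hx, autFn_mul _ _ hx]
    have hkx := autFn_mem k hx
    rw [← hφb ⟨_, hkx⟩, hwe, autFn_coe (conjAut (T ⊓ T₁) hn) ⟨_, hkx⟩, conjAut_coe]
  rw [e]
  exact mul_mem (autInducedBy_le_kGen st le_rfl (conjAut_mem_autInducedBy hn hw)) hk

/-- The Sylow condition from the index of the generated group. -/
theorem meet_fullyAutomized (hQ : Rep p F D D₁ (T ⊓ T₁) Q)
    (hK : kGen p F D D₁ Q ≤ (meetSys st).autGroup Q)
    (hi : ¬ p ∣ (kGen p F D D₁ Q).relIndex ((meetSys st).autGroup Q)) :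
    (meetSys st).IsFullyAutomized p Q := by
  haveI := finite_base st
  haveI := finite_of_le_base hQ.le
  haveI : Finite (MulAut Q) := Finite.of_injective (fun f : MulAut Q => (f : Q → Q)) DFunLike.coe_injective
  set A := (meetSys st).autGroup Q
  set B := autInducedBy (T ⊓ T₁) Q
  have hB : IsPGroup p (B.subgroupOf A) :=
    (isPGroup_autInducedBy (isPGroup_base st)).comap_of_injective _ (Subgroup.subtype_injective _)
  have hindex : ¬ p ∣ (B.subgroupOf A).index := by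
    show ¬ p ∣ B.relIndex A
    rw [← Subgroup.relIndex_mul_relIndex _ _ _ (autInducedBy_le_kGen st hQ.le) hK]
    exact fun h => ((Fact.out : p.Prime).dvd_mul.1 h).elim hQ.sylow hi
  exact ⟨hQ.le, hB.toSylow hindex, rfl⟩

theorem good_top : Criterion.Good (meetSys st) p (T ⊓ T₁) := by
  haveI := finite_base st
  obtain ⟨Q, hQ, α, hα, hn⟩ := exists_rep st (le_refl (T ⊓ T₁))
  obtain rfl : Q = T ⊓ T₁ := eq_of_le_of_card le_rfl (isConj_le_right hQ) (isConj_card hQ).ge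
  refine ⟨_, hQ, meet_fullyAutomized st (rep_of_nice st le_rfl hα hn) (kGen_le_meetSys st (wcentric_top st)) ?_,
    receptive_of_extend le_rfl fun P f hf hfi => ⟨f, fun N hN => ?_, fun _ _ => rfl⟩⟩
  · rw [Subgroup.relIndex_eq_one.2 fun a ha => top_automizer st ha]
    exact fun h => (Fact.out : p.Prime).one_lt.ne' (Nat.dvd_one.1 h)
  · have hP : P = T ⊓ T₁ := eq_of_le_of_card le_rfl hf.le ((congrArg (fun Z : Subgroup Ω => Nat.card Z) hfi).symm.trans hf.card_img).le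
    exact hf.mono fun x hx => hP ▸ (hN x hx).1

/-- The classes of subgroups that are not centric. -/
theorem good_of_not_wcentric (hQ : Rep p F D D₁ (T ⊓ T₁) Q) (hc : ¬ WCentric F (T ⊓ T₁) Q)
    (hgood : ∀ R ≤ T ⊓ T₁, Nat.card Q < Nat.card R → Criterion.Good (meetSys st) p R) :
    Criterion.Good (meetSys st) p Q := by
  haveI := finite_base st
  obtain ⟨n, hn, hnQ⟩ := SetLike.not_le_iff_exists.1 (hQ.cent hc)
  refine Criterion.good_of_core {R | WCentric F (T ⊓ T₁) R} (isPGroup_base st) (fun R hR => hR.1)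
    (fun R hR R' h => ?_) (meetSys_gen st) (meet_fullyNormalized st hQ) hc (fun e => hc (e ▸ wcentric_top st))
    hgood ⟨n, hn.1, hnQ, 1, one_mem _, fun x => ?_⟩
  · obtain ⟨f, hf, hfi⟩ := isConj_iff.1 h
    exact WCentric.conj hR st.sc (isConj_iff.2 ⟨f, hf.of_subsystem (meetSys_sub st), hfi⟩)
  · show (x : Ω) = n * x * n⁻¹
    rw [← (mem_centralizerIn.1 hn).2 x x.2, mul_inv_cancel_right]

end CfsgLib.Fsys.Meet
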