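import Cfsg.Agent.Lib.FusionSystem.Meet.Stabilizer

/-! The meet is saturated. -/

set_option autoImplicit false

namespace CfsgLib.Fsys.Meet

open Cfsg Cfsg.FusionSystem CfsgLib.Fsys.WNR
open Cfsg.FusionSystem (centralizerIn normalizerIn extender)

universe u

variable {Ω : Type u} [Group Ω] {S T T₁ : Subgroup Ω} {F : FusionSystem S} {D : FusionSystem T}
  {D₁ : FusionSystem T₁} {Q : Subgroup Ω} {p : ℕ} [Fact p.Prime] [Finite S] (st : Setup F D D₁ p)
include st

/-- The classes of centric subgroups. -/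
theorem good_of_wcentric (hc : WCentric F (T ⊓ T₁) Q) (hlt : Q < T ⊓ T₁) {α : MulAut ↥(T ⊓ T₁)}
    (hα : α ∈ F.autGroup (T ⊓ T₁)) (hn : Nice F (img (autFn α) Q))
    (hgood : ∀ R ≤ T ⊓ T₁, Nat.card Q < Nat.card R → Criterion.Good (meetSys st) p R) :
    Criterion.Good (meetSys st) p Q := by
  classical
  haveI := finite_base st
  have hWp := isPGroup_base st
  have hQ := rep_of_nice st hc.1 hα hn
  haveI := finite_of_le_base hc.1
  haveI : Finite (MulAut Q) := Finite.of_injective (fun f : MulAut Q => (f : Q → Q)) DFunLike.coe_injective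
  set E := meetSys st
  set M := upSys st (Nat.card Q)
  set N := normalizerIn (T ⊓ T₁) Q
  set K := kGen p F D D₁ Q
  haveI := finite_of_le_base (normalizerIn_le : N ≤ T ⊓ T₁)
  haveI : Finite (MulAut N) := Finite.of_injective (fun f : MulAut N => (f : N → N)) DFunLike.coe_injective
  have hQN : Q ≤ N := le_normalizerIn hc.1
  have hME : M.IsSubsystemOf E := upSys_sub st _
  have hEn := meet_fullyNormalized st hQ
  have hMn : M.IsFullyNormalized Q := ⟨hc.1, fun R hR => hEn.2 R (by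
    obtain ⟨f, hf, hfi⟩ := isConj_iff.1 hR
    exact isConj_iff.2 ⟨f, hf.of_subsystem hME, hfi⟩)⟩
  have hKE : K ≤ E.autGroup Q := kGen_le_meetSys st hc
  have hℋconj : ∀ R ∈ {R | WCentric F (T ⊓ T₁) R ∧ Nat.card Q < Nat.card R}, ∀ R', M.IsConj R R' →
      R' ∈ {R | WCentric F (T ⊓ T₁) R ∧ Nat.card Q < Nat.card R} := fun R hR R' h =>
    ⟨hR.1.conj st.sc (by
      obtain ⟨f, hf, hfi⟩ := isConj_iff.1 h
      exact isConj_iff.2 ⟨f, (hf.of_subsystem hME).of_subsystem (meetSys_sub st), hfi⟩),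
      (isConj_card h).symm ▸ hR.2⟩
  have hMgood : ∀ R ≤ T ⊓ T₁, Nat.card Q < Nat.card R → Criterion.Good M p R := fun R hR h =>
    upSys_good st hR h (hgood R hR h)
  have hΓ : E.autGroup Q ≤ resK st hQ.le := by
    intro a ha
    obtain ⟨k, hk, b, hb, hab⟩ := dec_level st ((mem_autGroup_iff_fn hc.1).1 ha) le_rfl hc rfl
    have hbi : img b Q = Q := hb.img_eq_self fun x hx => by
      have h1 := hab _ (autFn_mem k⁻¹ hx)
      rw [autFn_apply_inv k hx] at h1
      exact h1 ▸ autFn_mem a (autFn_mem k⁻¹ hx)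
    obtain ⟨b', hb', hbe⟩ := exists_aut_of_fn hb hbi
    have h1 := gen_le_resK st hQ hc hlt hgood _ (Nat.lt_succ_self _)
      (Criterion.autGroup_le_gen {R | WCentric F (T ⊓ T₁) R ∧ Nat.card Q < Nat.card R} hWp
        (fun R hR => hR.1.1) hℋconj (upSys_gen st _) hMn (fun h => lt_irrefl _ h.2) hlt.ne hMgood hb')
    rw [show a = b' * k from mulAut_ext fun x hx => by
      rw [hab x hx, autFn_mul _ _ hx, autFn_coe b' ⟨_, autFn_mem k hx⟩, hbe]]
    exact mul_mem h1 (kGen_le_resK st hQ.le hk)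
  -- the index of the generated group
  have hindex : ¬ p ∣ K.relIndex (E.autGroup Q) := by
    intro hdvd
    set A := E.autGroup Q
    haveI : (K.subgroupOf A).Normal := ⟨fun k hk b =>
      kGen_conj (hc.1.trans st.sc.1) (autGroup_mono' (meetSys_sub st) Q b.2) hk⟩
    obtain ⟨q, hq⟩ := exists_prime_orderOf_dvd_card' p
      (show p ∣ Nat.card (A ⧸ K.subgroupOf A) from hdvd)
    obtain ⟨a, rfl⟩ := QuotientGroup.mk'_surjective (K.subgroupOf A) q
    obtain ⟨s, hs, k, hk, hask⟩ := hΓ a.2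
    obtain ⟨h, hh, hhs⟩ := id hs
    let π := QuotientGroup.mk' (K.subgroupOf A)
    have hsA : s ∈ A := resN_le st hQ.le hs
    have hπ : π ⟨s, hsA⟩ = π a := by
      have e : a = (⟨s, hsA⟩ : A) * ⟨k, hKE hk⟩ := Subtype.ext hask
      rw [e, map_mul, show π ⟨k, hKE hk⟩ = 1 from (QuotientGroup.eq_one_iff _).2 hk, mul_one]
    obtain ⟨j, hj⟩ := CfsgLib.Fusion.Basic.exists_pow_coprime (p := p) h
    set i := orderOf (h ^ p ^ j)
    have hpow : ∀ l : ℕ, ∀ x ∈ Q, autFn (s ^ l) x = autFn (h ^ l) x := by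
      intro l
      induction l with
      | zero => intro x hx; rw [pow_zero, pow_zero, autFn_id hx, autFn_id (hQN hx)]
      | succ l ihl =>
        intro x hx
        rw [pow_succ, pow_succ, autFn_mul _ _ hx, autFn_mul _ _ (hQN hx), hhs x hx, ihl _ (autFn_mem s hx)]
    have hsi : s ^ i ∈ K := res_mem_kGen st (meetSys_sub st)
      (hgood N normalizerIn_le (Set.Finite.card_lt_card (Set.toFinite (N : Set Ω))
        (lt_normalizerIn hWp hlt))) hQN (pow_mem hh i)
      (j := j) (by rw [← pow_mul, mul_comm, pow_mul]; exact pow_orderOf_eq_one _) (hpow i)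
    have h1 : π a ^ i = 1 := by
      rw [← hπ, ← map_pow]
      exact (QuotientGroup.eq_one_iff _).2 hsi
    have h2 : p ∣ i := hq ▸ orderOf_dvd_of_pow_eq_one h1
    exact (Fact.out : p.Prime).coprime_iff_not_dvd.1 hj.symm h2
  refine ⟨Q, isConj_refl hc.1, meet_fullyAutomized st hQ hKE hindex, receptive_of_extend hc.1 fun X f hf hfi => ?_⟩
  -- receptivity
  have hXQ : E.IsConj Q X := isConj_symm (isConj_iff.2 ⟨f, hf, hfi⟩)
  have hMQX : M.IsConj Q X := by
    obtain ⟨u, hu, hui⟩ := isConj_iff.1 hXQ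
    obtain ⟨k, hk, b, hb, hub⟩ := dec_level st hu le_rfl hc rfl
    refine isConj_iff.2 ⟨b, hb, ?_⟩
    rw [← hui, img_congr (f := u) (g := b ∘ autFn k) hub,
      ((mem_autGroup_iff_fn (hc.1.trans st.sc.1)).1 (kGen_le_autGroup st hc.1 hk)).img_comp, img_autFn]
  obtain ⟨ψ, hψM, hψi⟩ := Criterion.exists_up {R | WCentric F (T ⊓ T₁) R ∧ Nat.card Q < Nat.card R} hWp
    (fun R hR => hR.1.1) hℋconj (upSys_gen st _) hMn (fun h => lt_irrefl _ h.2) hlt.ne hMgood hMQX
  have hψ := hψM.of_subsystem hME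
  obtain ⟨a, ha, hae⟩ := Criterion.exists_pushed (P := Q) (X := X) (Q := X) hf le_rfl hψ hψi
    (ψ' := id) (fn_id normalizerIn_le) (by rw [img_id, hfi])
  obtain ⟨s, ⟨h, hh, hhs⟩, k, hk, hask⟩ := hΓ ha
  obtain ⟨φ, hφ, hφf⟩ := id hf
  set Nf := extender (T ⊓ T₁) X φ
  have hNf : ∀ x, x ∈ Nf ↔ InExt (T ⊓ T₁) X f x := fun x => mem_extender hφf
  have hNfN : Nf ≤ normalizerIn (T ⊓ T₁) X := fun x hx => ⟨((hNf x).1 hx).1, ((hNf x).1 hx).2.1⟩
  have hXNf : X ≤ Nf := fun x hx => (hNf x).2 (inExt_of_mem hf hx)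
  have hψN := hψ.mono hNfN
  have hψX := hψ.mono (le_normalizerIn hf.le)
  have hMN : img ψ Nf ≤ N := img_le fun n hn =>
    hψ.map_normalizer (le_normalizerIn hf.le) hψi (hNfN hn) (hNfN hn).2
  have hhN : Fn E N (autFn h) := (mem_autGroup_iff_fn normalizerIn_le).1 hh
  have hhi' : Fn E N (autFn h⁻¹) := (mem_autGroup_iff_fn normalizerIn_le).1 (inv_mem hh)
  have haf : ∀ x ∈ X, f x = autFn h (autFn k (ψ x)) := fun x hx => by
    have hψx : ψ x ∈ Q := hψi.le (mem_img_of_mem hx)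
    rw [hhs _ (autFn_mem k hψx), ← autFn_mul s k hψx, ← hask, hae x hx]
    rfl
  obtain ⟨g, hg, hge⟩ := kGen_extend_rep st hc hα hn hk (P := img ψ Nf) (hψi ▸ img_mono hXNf) hMN fun m hm => by
    obtain ⟨n, hn', rfl⟩ := hψN.mem_img.1 hm
    obtain ⟨-, hnX, w, hw, hwe⟩ := (hNf n).1 hn'
    haveI := finite_of_le_base hc.1
    have hwN : w ∈ N := ⟨hw, mem_normalizer_of_map_le fun y hy => by
      obtain ⟨x, hx, rfl⟩ := hf.mem_img.1 (hfi.ge hy)
      rw [← hwe x hx]
      exact hfi.le (mem_img_of_mem ((mem_normalizer_iff'.1 hnX).1 x hx))⟩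
    refine ⟨autFn h⁻¹ w, (autFn_mem h⁻¹ hwN).1, fun y hy => ?_⟩
    obtain ⟨x, hx, rfl⟩ := hψX.mem_img.1 (hψi.ge hy)
    have hxn := (mem_normalizer_iff'.1 hnX).1 x hx
    rw [← hψN.map_conj hn' (hXNf hx)]
    have h1 := hwe x hx
    rw [haf _ hxn, haf x hx] at h1
    have h2 := congrArg (autFn h⁻¹) h1
    have hky : autFn k (ψ x) ∈ N := hQN (autFn_mem k hy)
    rw [autFn_inv_apply h (hQN (autFn_mem k (hψi.le (mem_img_of_mem hxn)))),
      hhi'.map_conj hwN (autFn_mem h hky), autFn_inv_apply h hky] at h2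
    exact h2
  have hgm : ∀ m ∈ img ψ Nf, g m ∈ N := fun m hm => hg.map_normalizer (hψi ▸ img_mono hXNf)
    ((img_congr hge).trans (img_autFn k)) hm (hMN hm).2
  refine ⟨autFn h ∘ (g ∘ ψ), fun N' hN' => ?_, fun x hx => ?_⟩
  · have hle : N' ≤ Nf := fun x hx => (hNf x).2 (hN' x hx)
    exact ((hψN.mono hle).comp hg fun x hx => mem_img_of_mem (hle hx)).comp hhN
      fun x hx => hgm _ (mem_img_of_mem (hle hx))
  · show autFn h (g (ψ x)) = f x
    rw [hge _ (hψi.le (mem_img_of_mem hx)), haf x hx]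

/-- The meet of two weakly normal subsystems is saturated. -/
theorem meetSys_saturated : (meetSys st).IsSaturated p := by
  haveI := finite_base st
  intro P₀ hP₀
  refine induction_down (C := fun P => Criterion.Good (meetSys st) p P) P₀ hP₀ ?_
  intro P hP ih
  obtain ⟨Q, hPQ, α, hα, hn⟩ := exists_rep st hP
  suffices h : Criterion.Good (meetSys st) p Q by
    obtain ⟨R, hR, hA, hr⟩ := h
    exact ⟨R, isConj_trans hPQ hR, hA, hr⟩
  have hQW : Q ≤ T ⊓ T₁ := isConj_le_right hPQ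
  have hgood : ∀ R ≤ T ⊓ T₁, Nat.card Q < Nat.card R → Criterion.Good (meetSys st) p R :=
    fun R hR h => ih R hR (isConj_card hPQ ▸ h)
  rcases eq_or_lt_of_le hQW with rfl | hlt
  · exact good_top st
  by_cases hc : WCentric F (T ⊓ T₁) Q
  · exact good_of_wcentric st hc hlt hα hn hgood
  · exact good_of_not_wcentric st (rep_of_nice st hQW hα hn) hc hgood

end CfsgLib.Fsys.Meet
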