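import Cfsg.Agent.Lib.FusionSystem.Meet.Reps

/-! The automizer of a centric representative. -/

set_option autoImplicit false

namespace CfsgLib.Fsys.Meet

open Cfsg Cfsg.FusionSystem CfsgLib.Fsys.WNR
open Cfsg.FusionSystem (centralizerIn normalizerIn)

universe u

variable {Ω : Type u} [Group Ω] {S T T₁ : Subgroup Ω} {F : FusionSystem S} {D : FusionSystem T}
  {D₁ : FusionSystem T₁} {Q : Subgroup Ω} {p : ℕ} [Fact p.Prime] [Finite S] (st : Setup F D D₁ p)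
include st

/-- The restrictions of the automorphisms of the normalizer. -/
def resN (hQ : Q ≤ T ⊓ T₁) : Subgroup (MulAut Q) where
  carrier := {a | ∃ h ∈ (meetSys st).autGroup (normalizerIn (T ⊓ T₁) Q), ∀ x ∈ Q, autFn h x = autFn a x}
  one_mem' := ⟨1, one_mem _, fun x hx => by rw [autFn_id (le_normalizerIn hQ hx), autFn_id hx]⟩
  mul_mem' := fun {a b} ⟨h, hh, he⟩ ⟨h', hh', he'⟩ => ⟨h * h', mul_mem hh hh', fun x hx => by
    rw [autFn_mul _ _ (le_normalizerIn hQ hx), autFn_mul _ _ hx, he' x hx, he _ (autFn_mem b hx)]⟩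
  inv_mem' := fun {a} ⟨h, hh, he⟩ => ⟨h⁻¹, inv_mem hh, fun x hx => by
    have h1 := he _ (autFn_mem a⁻¹ hx)
    rw [autFn_apply_inv a hx] at h1
    conv_lhs => rw [← h1]
    exact autFn_inv_apply h (le_normalizerIn hQ (autFn_mem a⁻¹ hx))⟩

theorem resN_le (hQ : Q ≤ T ⊓ T₁) : resN st hQ ≤ (meetSys st).autGroup Q := fun _ ⟨_, hh, he⟩ =>
  (mem_autGroup_iff_fn hQ).2 ((((mem_autGroup_iff_fn normalizerIn_le).1 hh).mono (le_normalizerIn hQ)).congr he)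

/-- The restrictions times the generated group. -/
def resK (hQ : Q ≤ T ⊓ T₁) : Subgroup (MulAut Q) where
  carrier := {a | ∃ s ∈ resN st hQ, ∃ k ∈ kGen p F D D₁ Q, a = s * k}
  one_mem' := ⟨1, one_mem _, 1, one_mem _, (mul_one 1).symm⟩
  mul_mem' := fun {a b} ⟨s, hs, k, hk, ea⟩ ⟨s', hs', k', hk', eb⟩ =>
    ⟨s * s', mul_mem hs hs', s'⁻¹ * k * s' * k', mul_mem (by
      have := kGen_conj (hQ.trans st.sc.1) (autGroup_mono' (meetSys_sub st) Q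
        (resN_le st hQ (inv_mem hs'))) hk
      rwa [inv_inv] at this) hk', by rw [ea, eb]; group⟩
  inv_mem' := fun {a} ⟨s, hs, k, hk, ea⟩ =>
    ⟨s⁻¹, inv_mem hs, s * k⁻¹ * s⁻¹, kGen_conj (hQ.trans st.sc.1)
      (autGroup_mono' (meetSys_sub st) Q (resN_le st hQ hs)) (inv_mem hk), by rw [ea]; group⟩

theorem resN_le_resK (hQ : Q ≤ T ⊓ T₁) : resN st hQ ≤ resK st hQ := fun s hs =>
  ⟨s, hs, 1, one_mem _, (mul_one s).symm⟩

theorem kGen_le_resK (hQ : Q ≤ T ⊓ T₁) : kGen p F D D₁ Q ≤ resK st hQ := fun k hk =>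
  ⟨1, one_mem _, k, hk, (one_mul k).symm⟩

/-- The automorphisms generated above the order of `Q` are restrictions times generated ones. -/
theorem gen_le_resK (hQ : Rep p F D D₁ (T ⊓ T₁) Q) (hc : WCentric F (T ⊓ T₁) Q) (hlt : Q < T ⊓ T₁)
    (hgood : ∀ R ≤ T ⊓ T₁, Nat.card Q < Nat.card R → Criterion.Good (meetSys st) p R) :
    ∀ m, Nat.card Q < m → Criterion.Gen (upSys st (Nat.card Q)) m Q ≤ resK st hQ.le := by
  classical
  haveI := finite_base st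
  have hWp := isPGroup_base st
  set M := upSys st (Nat.card Q)
  set N := normalizerIn (T ⊓ T₁) Q
  have hNW : N ≤ T ⊓ T₁ := normalizerIn_le
  haveI := finite_of_le_base hNW
  haveI := finite_of_le_base hQ.le
  have hQN : Q ≤ N := le_normalizerIn hQ.le
  have hME : M.IsSubsystemOf (meetSys st) := upSys_sub st _
  have hMF : M.IsSubsystemOf F := fun _ _ h => meetSys_sub st _ (hME _ h)
  have hMn : M.IsFullyNormalized Q := ⟨hQ.le, fun R hR => (meet_fullyNormalized st hQ).2 R (by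
    obtain ⟨f, hf, hfi⟩ := isConj_iff.1 hR
    exact isConj_iff.2 ⟨f, hf.of_subsystem hME, hfi⟩)⟩
  have hMgood : ∀ R ≤ T ⊓ T₁, Nat.card Q < Nat.card R → Criterion.Good M p R := fun R hR h =>
    upSys_good st hR h (hgood R hR h)
  have hup : ∀ {X : Subgroup Ω}, M.IsConj Q X → Criterion.Up M X Q := fun {X} hX =>
    Criterion.exists_up {R | WCentric F (T ⊓ T₁) R ∧ Nat.card Q < Nat.card R} hWp (fun R hR => hR.1.1)
      (fun R hR R' h => ⟨hR.1.conj st.sc (by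
        obtain ⟨f, hf, hfi⟩ := isConj_iff.1 h
        exact isConj_iff.2 ⟨f, hf.of_subsystem hMF, hfi⟩), (isConj_card h).symm ▸ hR.2⟩)
      (upSys_gen st _) hMn (fun h => lt_irrefl _ h.2) hlt.ne hMgood hX
  intro m
  induction hk : Nat.card ↥(T ⊓ T₁) + 1 - m using Nat.strong_induction_on generalizing m with
  | _ k ih =>
  intro hm
  refine (Subgroup.closure_le _).2 ?_
  rintro a ⟨R, g, hg, hQR, hRN, hmR, hag⟩
  have hgQ : img g Q = Q := (hg.mono hQR).img_eq_self fun x hx => hag ⟨x, hx⟩ ▸ (a ⟨x, hx⟩).2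
  by_cases hRN' : R = N
  · subst hRN'
    have hgN : img g N = N := hg.img_eq_self fun x hx => hg.map_normalizer hQN hgQ hx hx.2
    obtain ⟨h, hh, hhe⟩ := exists_aut_of_fn (hg.of_subsystem hME) hgN
    refine resN_le_resK st hQ.le ⟨h, hh, fun x hx => ?_⟩
    rw [autFn_coe h ⟨x, hQN hx⟩, hhe, autFn_coe a ⟨x, hx⟩, hag]
  have hRW : Nat.card R ≤ Nat.card ↥(T ⊓ T₁) := Subgroup.card_le_of_le hg.le
  have hnext : Criterion.Gen M (Nat.card R + 1) Q ≤ resK st hQ.le :=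
    ih (Nat.card ↥(T ⊓ T₁) + 1 - (Nat.card R + 1)) (by omega) _ rfl (by omega)
  set R₂ := img g R
  have hQR₂ : Q ≤ R₂ := hgQ ▸ img_mono hQR
  have hR₂N : R₂ ≤ N := img_le fun n hn => hg.map_normalizer hQR hgQ hn (hRN hn).2
  have hR₂N' : R₂ ≠ N := fun e => hRN' (eq_of_le_of_card hNW hRN
    ((congrArg (fun Z : Subgroup Ω => Nat.card Z) e).symm.trans hg.card_img).le)
  have hrR : Nat.card Q < Nat.card R := lt_of_lt_of_le hm hmR
  obtain ⟨W', hW', hA, hrec⟩ := hMgood R hg.le hrR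
  obtain ⟨f₁, hf₁, hi₁⟩ := isConj_iff.1 hW'
  obtain ⟨g', hg', hg'g, hg'i⟩ := hg.exists_inv
  have hm' : ∀ y ∈ R₂, g' y ∈ R := fun y hy => hg'i.le (mem_img_of_mem hy)
  have hf₂ := hg'.comp hf₁ hm'
  have hi₂ : img (f₁ ∘ g') R₂ = W' := by rw [hg'.img_comp, hg'i, hi₁]
  have hf₁Q := hf₁.mono hQR
  set Q₀ := img f₁ Q with hQ₀
  have hQ₀W : Q₀ ≤ W' := hi₁ ▸ img_mono hQR
  haveI := finite_of_le_base hA.1
  haveI : Finite (MulAut W') := Finite.of_injective (fun f : MulAut W' => (f : W' → W')) DFunLike.coe_injective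
  haveI := finite_of_le_base (hQ₀W.trans hA.1)
  have hf₂Q : img (f₁ ∘ g') Q = Q₀ := by
    conv_lhs => rw [← hgQ, ← (hg.mono hQR).img_comp]
    exact img_congr fun x hx => congrArg f₁ (hg'g x (hQR hx))
  let S₀ : Set (MulAut W') := {τ | τ ∈ M.autGroup W' ∧ (∀ y ∈ Q₀, autFn τ y ∈ Q₀) ∧ ∃ j : ℕ, τ ^ p ^ j = 1}
  set G₀ := Subgroup.closure S₀
  have hG₀ : G₀ ≤ M.autGroup W' := (Subgroup.closure_le _).2 fun τ hτ => hτ.1
  have hres : ∀ δ ∈ G₀, ∃ b ∈ kGen p F D D₁ Q₀, ∀ y ∈ Q₀, autFn b y = autFn δ y := by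
    intro δ hδ
    induction hδ using Subgroup.closure_induction with
    | mem τ hτ =>
      obtain ⟨hτA, hst, j, hj⟩ := hτ
      have hτf := ((mem_autGroup_iff_fn hA.1).1 hτA).mono hQ₀W
      obtain ⟨b, -, hb⟩ := exists_aut_of_fn hτf (hτf.img_eq_self hst)
      have hbe : ∀ y ∈ Q₀, autFn b y = autFn τ y := fun y hy => (autFn_coe b ⟨y, hy⟩).trans (hb _)
      exact ⟨b, res_mem_kGen st hMF ⟨W', isConj_refl hA.1, hA, hrec⟩ hQ₀W hτA hj hbe, hbe⟩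
    | one => exact ⟨1, one_mem _, fun y hy => by rw [autFn_id hy, autFn_id (hQ₀W hy)]⟩
    | mul a b _ _ ha hb =>
      obtain ⟨a', ha', hae⟩ := ha
      obtain ⟨b', hb', hbe⟩ := hb
      refine ⟨a' * b', mul_mem ha' hb', fun y hy => ?_⟩
      rw [autFn_mul _ _ hy, autFn_mul _ _ (hQ₀W hy), hae _ (autFn_mem b' hy), hbe y hy]
    | inv a _ ha =>
      obtain ⟨a', ha', hae⟩ := ha
      refine ⟨a'⁻¹, inv_mem ha', fun y hy => ?_⟩
      have h1 := hae _ (autFn_mem a'⁻¹ hy)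
      rw [autFn_apply_inv a' hy] at h1
      conv_rhs => rw [h1]
      exact (autFn_inv_apply a (hQ₀W (autFn_mem a'⁻¹ hy))).symm
  have hstab : ∀ (X : Subgroup Ω) (f : Ω → Ω), Fn M X f → img f X = W' → Q ≤ X → img f Q = Q₀ →
      ∀ m ∈ normalizerIn N X, ∃ τ ∈ G₀, ∀ x ∈ X, autFn τ (f x) = f (m * x * m⁻¹) := by
    intro X f hf hi hQX hfQ m hm
    obtain ⟨τ, hτ, hτe⟩ := Criterion.exists_transported hf hi
      (⟨hm.1.1, hm.2⟩ : m ∈ normalizerIn (T ⊓ T₁) X)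
    have hpow : ∀ (i : ℕ), ∀ x ∈ X, autFn (τ ^ i) (f x) = f (m ^ i * x * (m ^ i)⁻¹) := by
      intro i
      induction i with
      | zero => intro x hx; simp [autFn_id (hi.le (mem_img_of_mem hx))]
      | succ i ihi =>
        intro x hx
        rw [pow_succ, autFn_mul _ _ (hi.le (mem_img_of_mem hx)), hτe x hx,
          ihi _ ((mem_normalizer_iff'.1 hm.2).1 x hx), pow_succ]
        exact congrArg f (by group)
    obtain ⟨j, hj⟩ := hWp ⟨m, hm.1.1⟩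
    have hj' : m ^ p ^ j = 1 := congrArg Subtype.val hj
    refine ⟨τ, Subgroup.subset_closure ⟨hτ, fun y hy => ?_, j, mulAut_ext fun y hy => ?_⟩, hτe⟩
    · obtain ⟨x, hx, rfl⟩ := (hf.mono hQX).mem_img.1 (hfQ.ge hy)
      rw [hτe x (hQX hx), ← hfQ]
      exact mem_img_of_mem ((mem_normalizer_iff'.1 hm.1.2).1 x hx)
    · obtain ⟨x, hx, rfl⟩ := hf.mem_img.1 (hi.ge hy)
      rw [hpow _ x hx, hj', one_mul, inv_one, mul_one, autFn_id hy]
  obtain ⟨γ, -, δ, hδ, h₁, h₂, hh₁, hh₂, he₁, he₂⟩ := Criterion.two_push hWp hA hrec (G₀ := G₀) (K := G₀)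
    hG₀ le_rfl (fun a ha k hk => mul_mem (mul_mem ha hk) (inv_mem ha)) (fun a ha => ⟨0, by simpa using ha⟩)
    hf₁ hi₁ hf₂ hi₂ (M₁ := normalizerIn N R) (M₂ := normalizerIn N R₂)
    (fun m hm => ⟨hm.1.1, hm.2⟩) (fun m hm => ⟨hm.1.1, hm.2⟩)
    (hstab R f₁ hf₁ hi₁ hQR rfl) (hstab R₂ (f₁ ∘ g') hf₂ hi₂ hQR₂ hf₂Q)
  obtain ⟨b, hb, hbδ⟩ := hres δ hδ
  obtain ⟨c, hc', hcf, hci⟩ := hf₁Q.exists_inv
  obtain ⟨d, hd, hde⟩ := exists_congr (hc'.of_subsystem hMF) hci hb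
  have hkey : ∀ x ∈ Q, h₂ (g x) = h₁ (autFn d x) := fun x hx => by
    have hfx : f₁ x ∈ Q₀ := mem_img_of_mem hx
    have h1 := hde _ hfx
    rw [hcf x hx] at h1
    obtain ⟨z, hz, hze⟩ := hf₁Q.mem_img.1 (autFn_mem b hfx)
    rw [← hze, hcf z hz] at h1
    rw [he₂ _ (mem_img_of_mem (hQR hx)), h1, he₁ z (hQR hz), hze]
    show autFn γ (autFn δ (f₁ (g' (g x)))) = _
    rw [hg'g x (hQR hx), hbδ _ hfx]
  have hlarge : ∀ X : Subgroup Ω, X ≤ N → X ≠ N → Nat.card X + 1 ≤ Nat.card ↥(X ⊔ normalizerIn N X) := by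
    intro X hX hne
    have hle : X ⊔ normalizerIn N X ≤ N := sup_le hX normalizerIn_le
    haveI := finite_of_le_base (hle.trans hNW)
    exact Set.Finite.card_lt_card (Set.toFinite ((X ⊔ normalizerIn N X : Subgroup Ω) : Set Ω))
      (lt_of_lt_of_le (lt_normalizerIn (hWp.to_le hNW) (lt_of_le_of_ne hX hne)) le_sup_right : X < X ⊔ normalizerIn N X)
  set Q₃ := img h₁ Q with hQ₃
  have hdQ : Fn F Q (autFn d) :=
    (mem_autGroup_iff_fn (hQ.le.trans st.sc.1)).1 (kGen_le_autGroup st hQ.le hd)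
  have h12 : img h₂ Q = Q₃ := by
    conv_lhs => rw [← hgQ, ← (hg.mono hQR).img_comp]
    rw [img_congr (f := h₂ ∘ g) (g := h₁ ∘ autFn d) hkey, hdQ.img_comp, img_autFn]
  obtain ⟨ψ, hψ, hψi⟩ := hup (isConj_of_fn (hh₁.mono (hQR.trans le_sup_left)) : M.IsConj Q Q₃)
  have mk : ∀ (X : Subgroup Ω) (h : Ω → Ω), Fn M X h → Q ≤ X → X ≤ N → Nat.card R + 1 ≤ Nat.card X →
      img h Q = Q₃ → ∃ β : MulAut Q, β ∈ resK st hQ.le ∧ ∀ x : Q, ((β x : Q) : Ω) = ψ (h x) := by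
    intro X h hh hQX hX hc hi
    have hc' := hh.comp hψ fun n hn => hh.map_normalizer hQX hi hn (hX hn).2
    have hci : img (ψ ∘ h) Q = Q := by rw [(hh.mono hQX).img_comp, hi, hψi]
    obtain ⟨β, -, hβe⟩ := exists_aut_of_fn (hc'.mono hQX) hci
    exact ⟨β, hnext (Subgroup.subset_closure ⟨X, _, hc', hQX, hX, hc, hβe⟩), hβe⟩
  obtain ⟨β₁, hβ₁, e₁⟩ := mk _ h₁ hh₁ (hQR.trans le_sup_left) (sup_le hRN normalizerIn_le) (hlarge R hRN hRN') rfl
  obtain ⟨β₂, hβ₂, e₂⟩ := mk _ h₂ hh₂ (hQR₂.trans le_sup_left) (sup_le hR₂N normalizerIn_le)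
    (hg.card_img ▸ hlarge R₂ hR₂N hR₂N') h12
  have e : a = β₂⁻¹ * (β₁ * d) := eq_inv_mul_of_mul_eq (MulEquiv.ext fun x => Subtype.ext (by
    rw [MulAut.mul_apply, MulAut.mul_apply, e₁, e₂, hag, hkey x x.2, autFn_coe]))
  rw [e]
  exact mul_mem (inv_mem hβ₂) (mul_mem hβ₁ (kGen_le_resK st hQ.le hd))

end CfsgLib.Fsys.Meet
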